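import Cfsg.Agent.OddBase.Subsets

/-!
The algebra generated by an abelian normal subgroup of an irreducible group: either a field, or its
atomic idempotents give a system of imprimitivity.
-/

set_option autoImplicit false
set_option linter.unusedSectionVars false

namespace Cfsg.Lib.OddBase

open scoped Pointwise

universe u

variable {A V : Type u} [Group A] [Finite A] [AddCommGroup V] [Finite V] [DistribMulAction A V]

/-- No proper non-trivial invariant subgroup. -/
def Irr (A V : Type u) [Group A] [AddCommGroup V] [DistribMulAction A V] : Prop :=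
  ∀ U : AddSubgroup V, (∀ a : A, ∀ v ∈ U, a • v ∈ U) → U = ⊥ ∨ U = ⊤

theorem cr_of_irr (h : Irr A V) : CR A V := by
  intro U hU
  rcases h U hU with rfl | rfl
  · exact ⟨⊤, fun _ _ _ => trivial, by simp, by simp⟩
  · exact ⟨⊥, fun a w hw => by rw [AddSubgroup.mem_bot] at hw ⊢; rw [hw, smul_zero], by simp, by simp⟩

/-- An irreducible module has prime exponent. -/
theorem exists_prime_exp [Nontrivial V] (h : Irr A V) :
    ∃ p : ℕ, p.Prime ∧ ∀ x : V, p • x = 0 := by
  obtain ⟨x, hx⟩ := exists_ne (0 : V)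
  have hne : addOrderOf x ≠ 1 := fun h1 => hx (AddMonoid.addOrderOf_eq_one_iff.1 h1)
  obtain ⟨p, hp, hdvd⟩ := Nat.exists_prime_and_dvd hne
  refine ⟨p, hp, ?_⟩
  let U : AddSubgroup V := (nsmulAddMonoidHom p : V →+ V).ker
  rcases h U (fun a v hv => by
    change p • (a • v) = 0
    have h2 := map_nsmul (DistribSMul.toAddMonoidHom V a) p v
    rw [show p • v = 0 from hv, map_zero] at h2
    exact h2.symm) with hU | hU
  · exfalso
    obtain ⟨m, hm⟩ := hdvd
    have hpos : 0 < addOrderOf x := addOrderOf_pos x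
    have hmx : m • x ∈ U := by
      change p • (m • x) = 0
      rw [← mul_nsmul', ← hm, addOrderOf_nsmul_eq_zero]
    rw [hU, AddSubgroup.mem_bot] at hmx
    have := Nat.le_of_dvd (by nlinarith) (addOrderOf_dvd_of_nsmul_eq_zero hmx)
    nlinarith [hp.two_le]
  · intro v
    exact (show v ∈ U from hU ▸ AddSubgroup.mem_top v)

theorem card_eq_prime_pow [Nontrivial V] {p : ℕ} (hp : p.Prime) (hexp : ∀ x : V, p • x = 0) :
    ∃ k, k ≠ 0 ∧ Nat.card V = p ^ k := by
  haveI : Fact p.Prime := ⟨hp⟩
  have hg : IsPGroup p (Multiplicative V) := fun x => ⟨1, by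
    rw [pow_one]; exact Multiplicative.toAdd.injective (by simpa using hexp (Multiplicative.toAdd x))⟩
  obtain ⟨k, hk⟩ := IsPGroup.iff_card.1 hg
  have hk' : Nat.card V = p ^ k := hk
  refine ⟨k, fun h0 => ?_, hk'⟩
  rw [h0, pow_zero] at hk'
  exact absurd hk' (Nat.ne_of_gt Finite.one_lt_card)

/-- The action as endomorphisms. -/
abbrev act (A V : Type u) [Group A] [AddCommGroup V] [DistribMulAction A V] :
    A →* AddMonoid.End V := DistribMulAction.toAddMonoidEnd A V

@[simp] theorem act_apply (a : A) (v : V) : act A V a v = a • v := rfl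

/-- The ring generated by a subgroup. -/
def alg (A V : Type u) [Group A] [AddCommGroup V] [DistribMulAction A V] (Z : Subgroup A) :
    Subring (AddMonoid.End V) := Subring.closure (act A V '' (Z : Set A))

theorem mem_alg {Z : Subgroup A} {z : A} (hz : z ∈ Z) : act A V z ∈ alg A V Z :=
  Subring.subset_closure ⟨z, hz, rfl⟩

theorem alg_conj {Z : Subgroup A} [Z.Normal] (g : A) {k : AddMonoid.End V} (hk : k ∈ alg A V Z) :
    act A V g * k * act A V g⁻¹ ∈ alg A V Z := by
  have hinv : act A V g⁻¹ * act A V g = 1 := by rw [← map_mul, inv_mul_cancel, map_one]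
  have hinv' : act A V g * act A V g⁻¹ = 1 := by rw [← map_mul, mul_inv_cancel, map_one]
  induction hk using Subring.closure_induction with
  | mem x hx =>
    obtain ⟨z, hz, rfl⟩ := hx
    rw [← map_mul, ← map_mul]
    exact mem_alg ((inferInstance : Z.Normal).conj_mem z hz g)
  | zero => rw [mul_zero, zero_mul]; exact zero_mem _
  | one => rw [mul_one, hinv']; exact one_mem _
  | add x y _ _ hx hy => rw [mul_add, add_mul]; exact add_mem hx hy
  | neg x _ hx => rw [mul_neg, neg_mul]; exact neg_mem hx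
  | mul x y _ _ hx hy =>
    have : act A V g * (x * y) * act A V g⁻¹ =
        (act A V g * x * act A V g⁻¹) * (act A V g * y * act A V g⁻¹) := by
      simp only [mul_assoc]
      rw [← mul_assoc (act A V g⁻¹) (act A V g), hinv, one_mul]
    rw [this]; exact mul_mem hx hy

theorem alg_comm {Z : Subgroup A} [IsMulCommutative Z] {x y : AddMonoid.End V}
    (hx : x ∈ alg A V Z) (hy : y ∈ alg A V Z) : x * y = y * x := by
  have hgen : ∀ a ∈ Z, ∀ b ∈ Z, act A V a * act A V b = act A V b * act A V a := by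
    intro a ha b hb
    rw [← map_mul, ← map_mul]
    exact congrArg _ (congrArg Subtype.val (IsMulCommutative.is_comm.comm (⟨a, ha⟩ : Z) ⟨b, hb⟩))
  letI : CommRing (Subring.closure (act A V '' (Z : Set A))) :=
    Subring.closureCommRingOfComm (by
      rintro _ ⟨a, ha, rfl⟩ _ ⟨b, hb, rfl⟩; exact hgen a ha b hb)
  exact congrArg Subtype.val (mul_comm (⟨x, hx⟩ : Subring.closure (act A V '' (Z : Set A))) ⟨y, hy⟩)

/-- A power of every element of the algebra equals itself. -/
theorem alg_pow [Nontrivial V] [FaithfulSMul A V] (hirr : Irr A V) (Z : Subgroup A) [Z.Normal]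
    [IsMulCommutative Z] :
    ∃ Q : ℕ, 2 ≤ Q ∧ ∀ k ∈ alg A V Z, k ^ Q = k := by
  classical
  obtain ⟨p, hp, hexp⟩ := exists_prime_exp hirr
  obtain ⟨c, -, hc⟩ := card_eq_prime_pow hp hexp
  haveI : Fact p.Prime := ⟨hp⟩
  have hcoreA : ∀ U : Subgroup A, U.Normal → IsPGroup p U → U = ⊥ := fun U hU hUp =>
    haveI := hU; normal_qgroup_trivial (cr_of_irr hirr) p c hc U hUp
  have hpZ : ¬ p ∣ Nat.card Z := by
    intro hdvd
    let P : Sylow p Z := default
    haveI : (P : Subgroup Z).Normal := by
      constructor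
      intro x hx g
      have : g * x * g⁻¹ = x := by
        rw [IsMulCommutative.is_comm.comm g x, mul_inv_cancel_right]
      rwa [this]
    haveI := Sylow.characteristic_of_normal P inferInstance
    have hbot := hcoreA ((P : Subgroup Z).map Z.subtype) inferInstance (P.isPGroup'.map Z.subtype)
    rw [Subgroup.map_eq_bot_iff_of_injective _ Z.subtype_injective] at hbot
    exact P.ne_bot_of_dvd_card hdvd hbot
  set t := Nat.totient (Nat.card Z) with ht
  have ht1 : 0 < t := Nat.totient_pos.2 Nat.card_pos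
  have hmod : p ^ t ≡ 1 [MOD Nat.card Z] :=
    Nat.ModEq.pow_totient (hp.coprime_iff_not_dvd.2 hpZ)
  refine ⟨p ^ t, hp.two_le.trans (Nat.le_self_pow ht1.ne' p), ?_⟩
  letI : CommRing (alg A V Z) :=
    { (inferInstance : Ring (alg A V Z)) with
      mul_comm := fun x y => Subtype.ext (alg_comm x.2 y.2) }
  haveI : Nontrivial (alg A V Z) := ⟨0, 1, fun h => by
    obtain ⟨x, hx⟩ := exists_ne (0 : V)
    exact hx (by simpa using (DFunLike.congr_fun (congrArg Subtype.val h) x).symm)⟩
  haveI : CharP (alg A V Z) p := (CharP.charP_iff_prime_eq_zero hp).2 (Subtype.ext (by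
    ext x
    simp [hexp x]))
  intro k hk
  have key : ∀ x : alg A V Z, (x : AddMonoid.End V) ∈ alg A V Z → iterateFrobenius (alg A V Z) p t x = x := by
    rintro ⟨x, hx⟩ -
    induction hx using Subring.closure_induction with
    | mem y hy =>
      obtain ⟨z, hz, rfl⟩ := hy
      apply Subtype.ext
      rw [iterateFrobenius_def, SubmonoidClass.coe_pow, ← map_pow]
      congr 1
      have hord : orderOf z ∣ Nat.card Z := by
        rw [← Subgroup.orderOf_mk z hz]; exact orderOf_dvd_natCard _
      conv_rhs => rw [← pow_one z]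
      exact pow_eq_pow_iff_modEq.2 (Nat.ModEq.of_dvd hord hmod)
    | zero => exact map_zero _
    | one => exact map_one _
    | add a b ha hb iha ihb =>
      rw [show (⟨a + b, add_mem ha hb⟩ : alg A V Z) = ⟨a, ha⟩ + ⟨b, hb⟩ from rfl, map_add, iha, ihb]
    | neg a ha iha =>
      rw [show (⟨-a, neg_mem ha⟩ : alg A V Z) = -⟨a, ha⟩ from rfl, map_neg, iha]
    | mul a b ha hb iha ihb =>
      rw [show (⟨a * b, mul_mem ha hb⟩ : alg A V Z) = ⟨a, ha⟩ * ⟨b, hb⟩ from rfl, map_mul, iha, ihb]
  have := congrArg Subtype.val (key ⟨k, hk⟩ hk)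
  simpa [iterateFrobenius_def] using this

/-- The imprimitive case: an idempotent other than `0` and `1` in the algebra. -/
theorem pair_of_idem {N : ℕ} (hb : Below.{u} N) (hA : Odd (Nat.card A)) (hN : Nat.card A ≤ N)
    (hirr : Irr A V) (Z : Subgroup A) [Z.Normal] [IsMulCommutative Z]
    (e₀ : AddMonoid.End V) (he₀ : e₀ ∈ alg A V Z) (hid : e₀ * e₀ = e₀) (h0 : e₀ ≠ 0) (h1 : e₀ ≠ 1) :
    Pair A V := by
  classical
  haveI : Finite (AddMonoid.End V) :=
    Finite.of_injective (fun f : AddMonoid.End V => (f : V → V)) DFunLike.coe_injective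
  haveI := Fintype.ofFinite (AddMonoid.End V)
  haveI := Fintype.ofFinite V
  let Idem : AddMonoid.End V → Prop := fun e => e ∈ alg A V Z ∧ e * e = e
  let Atom : AddMonoid.End V → Prop := fun e =>
    Idem e ∧ e ≠ 0 ∧ ∀ f, Idem f → f * e = 0 ∨ f * e = e
  have hmul : ∀ e f, Idem e → Idem f → Idem (e * f) := fun e f he hf => ⟨mul_mem he.1 hf.1, by
    have hc := alg_comm hf.1 he.1
    calc e * f * (e * f) = e * (f * e) * f := by simp only [mul_assoc]
      _ = e * (e * f) * f := by rw [hc]
      _ = (e * e) * (f * f) := by simp only [mul_assoc]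
      _ = e * f := by rw [he.2, hf.2]⟩
  have hbelow : ∀ n e, Nat.card (Set.range (e : AddMonoid.End V)) ≤ n → Idem e → e ≠ 0 →
      ∃ a, Atom a ∧ a * e = a := by
    intro n
    induction n using Nat.strong_induction_on with
    | _ n ih =>
      intro e hn he hne
      by_cases hat : ∀ f, Idem f → f * e = 0 ∨ f * e = e
      · exact ⟨e, ⟨he, hne, hat⟩, he.2⟩
      push Not at hat
      obtain ⟨f, hf, hfe0, hfe⟩ := hat
      have hlt : Nat.card (Set.range (f * e : AddMonoid.End V)) < Nat.card (Set.range (e : AddMonoid.End V)) := by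
        rw [Nat.card_coe_set_eq, Nat.card_coe_set_eq]
        refine Set.ncard_lt_ncard ⟨?_, ?_⟩
        · rintro _ ⟨x, rfl⟩
          exact ⟨f x, by
            rw [show f * e = e * f from alg_comm hf.1 he.1]; rfl⟩
        · intro hsub
          apply hfe
          ext x
          obtain ⟨y, hy⟩ := hsub ⟨x, rfl⟩
          have h3 := (hmul f e hf he).2
          have : (f * e) (e x) = e x := by
            rw [← hy]
            exact DFunLike.congr_fun h3 y
          calc (f * e) x = (f * (e * e)) x := by rw [he.2]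
            _ = (f * e) (e x) := rfl
            _ = e x := this
      obtain ⟨a, ha, hae⟩ := ih _ (lt_of_lt_of_le hlt hn) (f * e) le_rfl (hmul f e hf he) hfe0
      refine ⟨a, ha, ?_⟩
      calc a * e = a * (f * e) * e := by rw [hae]
        _ = a * (f * (e * e)) := by simp only [mul_assoc]
        _ = a := by rw [he.2, hae]
  obtain ⟨a₀, ha₀, -⟩ := hbelow _ e₀ le_rfl ⟨he₀, hid⟩ h0
  let cj : A → AddMonoid.End V → AddMonoid.End V := fun g e => act A V g * e * act A V g⁻¹
  have hcjm : ∀ g h e, cj (g * h) e = cj g (cj h e) := fun g h e => by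
    simp only [cj, mul_inv_rev, map_mul, mul_assoc]
  have hcj1 : ∀ e, cj 1 e = e := fun e => by simp only [cj, inv_one, map_one, mul_one, one_mul]
  have hcjmul : ∀ g e f, cj g (e * f) = cj g e * cj g f := by
    intro g e f
    have hinv : act A V g⁻¹ * act A V g = 1 := by rw [← map_mul, inv_mul_cancel, map_one]
    simp only [cj, mul_assoc]
    rw [← mul_assoc (act A V g⁻¹) (act A V g), hinv, one_mul]
  have hcjI : ∀ g e, Idem e → Idem (cj g e) := fun g e he =>
    ⟨alg_conj g he.1, by rw [← hcjmul, he.2]⟩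
  have hcjA : ∀ g e, Atom e → Atom (cj g e) := by
    intro g e he
    refine ⟨hcjI g e he.1, fun h => he.2.1 ?_, fun f hf => ?_⟩
    · have := congrArg (cj g⁻¹) h
      rw [← hcjm, inv_mul_cancel, hcj1] at this
      rw [this]; simp only [cj, mul_zero, zero_mul]
    · have hfg : cj g (cj g⁻¹ f) = f := by rw [← hcjm, mul_inv_cancel, hcj1]
      rcases he.2.2 _ (hcjI g⁻¹ f hf) with h | h
      · left; rw [← hfg, ← hcjmul, h]; simp only [cj, mul_zero, zero_mul]
      · right; rw [← hfg, ← hcjmul, h]
  -- the blocks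
  let Bl : Type u := {e : AddMonoid.End V // Atom e}
  letI : MulAction A Bl :=
    { smul := fun g e => ⟨cj g e.1, hcjA g e.1 e.2⟩
      one_smul := fun e => Subtype.ext (hcj1 e.1)
      mul_smul := fun g h e => Subtype.ext (hcjm g h e.1) }
  haveI := Fintype.ofFinite Bl
  have horth : ∀ e f : Bl, e ≠ f → e.1 * f.1 = 0 := by
    intro e f hne
    rcases f.2.2.2 e.1 e.2.1 with h | h
    · exact h
    rcases e.2.2.2 f.1 f.2.1 with h' | h'
    · rw [alg_comm e.2.1.1 f.2.1.1, h']
    · exact absurd (Subtype.ext (by rw [← h', alg_comm f.2.1.1 e.2.1.1, h])) hne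
  let S : Finset Bl → AddMonoid.End V := fun s => ∑ e ∈ s, e.1
  have hSmul : ∀ (s : Finset Bl) (e : Bl), S s * e.1 = if e ∈ s then e.1 else 0 := by
    intro s e
    rw [Finset.sum_mul]
    rw [Finset.sum_congr rfl (g := fun f => if f = e then e.1 else 0) ?_]
    · rw [Finset.sum_ite_eq']
    · intro f _
      by_cases h : f = e
      · rw [if_pos h, h]; exact e.2.1.2
      · rw [if_neg h]; exact horth f e h
  have hSid : ∀ s, Idem (S s) := fun s => ⟨sum_mem fun e _ => e.2.1.1, by
    change S s * (∑ e ∈ s, e.1) = _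
    rw [Finset.mul_sum]
    exact Finset.sum_congr rfl fun e he => by rw [hSmul, if_pos he]⟩
  have hsum1 : S Finset.univ = 1 := by
    by_contra hne
    have hI : Idem (1 - S Finset.univ) := ⟨sub_mem (one_mem _) (hSid _).1, by
      rw [mul_sub, sub_mul, one_mul, sub_mul, one_mul, (hSid _).2, mul_one, sub_self, sub_zero]⟩
    obtain ⟨a, ha, hae⟩ := hbelow _ _ le_rfl hI (sub_ne_zero.2 fun h => hne h.symm)
    apply ha.2.1
    rw [← hae, alg_comm ha.1.1 hI.1, sub_mul, one_mul, hSmul _ ⟨a, ha⟩, if_pos (Finset.mem_univ _),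
      sub_self]
  haveI : MulAction.IsPretransitive A Bl := by
    let O : Finset Bl := Finset.univ.filter fun e => e ∈ MulAction.orbit A (⟨a₀, ha₀⟩ : Bl)
    have hO : ∀ g : A, cj g (S O) = S O := by
      intro g
      simp only [cj, S, Finset.mul_sum, Finset.sum_mul]
      refine Finset.sum_equiv (MulAction.toPerm g) (fun e => ?_) (fun e _ => rfl)
      simp only [O, Finset.mem_filter, Finset.mem_univ, true_and, MulAction.toPerm_apply]
      rw [← MulAction.orbit_eq_iff, ← MulAction.orbit_eq_iff, MulAction.orbit_smul]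
    let U : AddSubgroup V := (S O).range
    have hU : U = ⊤ := by
      refine (hirr U ?_).resolve_left fun h => ?_
      · rintro g _ ⟨x, rfl⟩
        refine ⟨g • x, ?_⟩
        conv_lhs => rw [← hO g]
        change act A V g (S O (act A V g⁻¹ (g • x))) = g • S O x
        rw [act_apply, act_apply, inv_smul_smul]
      · apply ha₀.2.1
        ext x
        have h2 : S O * a₀ = a₀ := by
          rw [hSmul O ⟨a₀, ha₀⟩, if_pos (by simp [O])]
        have hx : a₀ x ∈ U := ⟨a₀ x, DFunLike.congr_fun h2 x⟩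
        rw [h, AddSubgroup.mem_bot] at hx
        exact hx
    have hSO : S O = 1 := by
      ext x
      obtain ⟨y, rfl⟩ := (show x ∈ U from hU ▸ AddSubgroup.mem_top x)
      exact DFunLike.congr_fun (hSid O).2 y
    rw [MulAction.isPretransitive_iff_base (⟨a₀, ha₀⟩ : Bl)]
    intro e
    have h2 := hSmul O e
    rw [hSO, one_mul] at h2
    by_cases he : e ∈ O
    · exact (Finset.mem_filter.1 he).2
    · rw [if_neg he] at h2; exact absurd h2 e.2.2.1
  let b₀ : Bl := ⟨a₀, ha₀⟩
  have hbl2 : ∃ e : Bl, e ≠ b₀ := by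
    by_contra h
    push Not at h
    have hall : ∀ e : Bl, S Finset.univ = e.1 := fun e => by
      refine Finset.sum_eq_single e (fun f _ hf => absurd ((h f).trans (h e).symm) hf) (by simp)
    rcases b₀.2.2.2 e₀ ⟨he₀, hid⟩ with h2 | h2 <;> rw [← hall b₀, hsum1, mul_one] at h2
    · exact h0 h2
    · exact h1 h2
  -- the component and its stabiliser
  let W : AddSubgroup V :=
    { carrier := {x | a₀ x = x}
      zero_mem' := map_zero a₀
      add_mem' := fun {x y} hx hy => by
        change a₀ (x + y) = x + y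
        rw [map_add, hx, hy]
      neg_mem' := fun {x} hx => by
        change a₀ (-x) = -x
        rw [map_neg, hx] }
  let H := MulAction.stabilizer A b₀
  have hmove : ∀ (g : A) (e : Bl) (x : V), e.1 x = x → (g • e).1 (g • x) = g • x := by
    intro g e x hx
    change act A V g (e.1 (act A V g⁻¹ (g • x))) = g • x
    rw [act_apply, act_apply, inv_smul_smul, hx]
  letI : DistribMulAction H W :=
    { smul := fun h x => ⟨(h : A) • (x : V), by
        have := hmove h b₀ x x.2
        rw [MulAction.mem_stabilizer_iff.1 h.2] at this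
        exact this⟩
      one_smul := fun x => Subtype.ext (one_smul A (x : V))
      mul_smul := fun g h x => Subtype.ext (mul_smul (g : A) (h : A) (x : V))
      smul_zero := fun g => Subtype.ext (smul_zero (g : A))
      smul_add := fun g x y => Subtype.ext (smul_add (g : A) (x : V) (y : V)) }
  haveI : Nontrivial W := by
    rw [AddSubgroup.nontrivial_iff_ne_bot]
    intro h
    apply ha₀.2.1
    ext x
    have hx : a₀ x ∈ W := DFunLike.congr_fun ha₀.1.2 x
    rw [h, AddSubgroup.mem_bot] at hx
    exact hx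
  have hHlt : Nat.card H < N := by
    refine lt_of_lt_of_le ?_ hN
    obtain ⟨e, he⟩ := hbl2
    obtain ⟨g, hg⟩ := MulAction.exists_smul_eq A b₀ e
    refine lt_of_le_of_ne H.card_le_card_group fun h => he ?_
    rw [← hg]
    refine MulAction.mem_stabilizer_iff.1 ?_
    change g ∈ H
    rw [Subgroup.eq_top_of_card_eq H h]
    trivial
  have hHirr : Irr H W := by
    intro U hU
    by_cases hUb : U = ⊥
    · exact Or.inl hUb
    right
    let U' : AddSubgroup V := AddSubgroup.closure {x : V | ∃ g : A, ∃ u ∈ U, x = g • (u : V)}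
    have hU' : U' = ⊤ := by
      refine (hirr U' ?_).resolve_left fun h => hUb ?_
      · intro g x hx
        induction hx using AddSubgroup.closure_induction with
        | mem y hy =>
          obtain ⟨g', w, hw, rfl⟩ := hy
          exact AddSubgroup.subset_closure ⟨g * g', w, hw, (mul_smul g g' (w : V)).symm⟩
        | zero => rw [smul_zero]; exact zero_mem _
        | add y z _ _ hy hz => rw [smul_add]; exact add_mem hy hz
        | neg y _ hy => rw [smul_neg]; exact neg_mem hy
      · rw [eq_bot_iff]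
        intro w hw
        have hx : (w : V) ∈ U' := AddSubgroup.subset_closure ⟨1, w, hw, (one_smul A _).symm⟩
        rw [h, AddSubgroup.mem_bot] at hx
        exact AddSubgroup.mem_bot.2 (Subtype.ext hx)
    rw [eq_top_iff]
    intro w _
    have hproj : ∀ x ∈ U', ∃ u ∈ U, a₀ x = (u : V) := by
      intro x hx
      induction hx using AddSubgroup.closure_induction with
      | mem y hy =>
        obtain ⟨g, w, hw, rfl⟩ := hy
        by_cases hg : g • b₀ = b₀
        · refine ⟨(⟨g, MulAction.mem_stabilizer_iff.2 hg⟩ : H) • w, hU _ w hw, ?_⟩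
          exact ((⟨g, MulAction.mem_stabilizer_iff.2 hg⟩ : H) • w).2
        · refine ⟨0, zero_mem U, ?_⟩
          rw [← hmove g b₀ (w : V) w.2]
          exact DFunLike.congr_fun (horth b₀ (g • b₀) fun h => hg h.symm) _
      | zero => exact ⟨0, zero_mem U, by simp⟩
      | add y z _ _ hy hz =>
        obtain ⟨u, hu, hu'⟩ := hy
        obtain ⟨v, hv, hv'⟩ := hz
        exact ⟨u + v, add_mem hu hv, by rw [map_add, hu', hv']; rfl⟩
      | neg y _ hy =>
        obtain ⟨u, hu, hu'⟩ := hy
        exact ⟨-u, neg_mem hu, by rw [map_neg, hu']; rfl⟩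
    obtain ⟨v, hv, hv'⟩ := hproj w (hU' ▸ AddSubgroup.mem_top _)
    have : v = w := Subtype.ext (by rw [← hv']; exact w.2)
    exact this ▸ hv
  have hHodd : Odd (Nat.card H) := hA.of_dvd_nat H.card_subgroup_dvd_card
  obtain ⟨x₀, y₀, hxy, hreg⟩ := pair_ne (hb H W hHlt hHodd (cr_of_irr hHirr))
  -- the colouring
  obtain ⟨T, hT⟩ := regSet_transitive hb (Nat.card Bl) A Bl le_rfl hA hN
  have hg : ∀ e : Bl, ∃ g : A, g • b₀ = e := MulAction.exists_smul_eq A b₀
  choose gg hgg using hg
  let v : V := ∑ e : Bl, gg e • (if e ∈ T then (x₀ : V) else y₀)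
  let w : V := ∑ e : Bl, gg e • (if e ∈ T then (y₀ : V) else x₀)
  have hproj : ∀ (z : Bl → W) (e : Bl), e.1 (∑ f : Bl, gg f • (z f : V)) = gg e • (z e : V) := by
    intro z e
    rw [map_sum, Finset.sum_eq_single e]
    · have := hmove (gg e) b₀ (z e : V) (z e).2
      rw [hgg] at this
      exact this
    · intro f _ hf
      have h2 := hmove (gg f) b₀ (z f : V) (z f).2
      rw [hgg] at h2
      rw [← h2]
      exact DFunLike.congr_fun (horth e f fun h => hf h.symm) _
    · simp
  have hv : ∀ e : Bl, e.1 v = gg e • ((if e ∈ T then x₀ else y₀ : W) : V) := fun e => by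
    rw [← hproj (fun f => if f ∈ T then x₀ else y₀) e]
    refine congrArg e.1 (Finset.sum_congr rfl fun f _ => ?_)
    split <;> rfl
  have hw : ∀ e : Bl, e.1 w = gg e • ((if e ∈ T then y₀ else x₀ : W) : V) := fun e => by
    rw [← hproj (fun f => if f ∈ T then y₀ else x₀) e]
    refine congrArg e.1 (Finset.sum_congr rfl fun f _ => ?_)
    split <;> rfl
  refine ⟨v, w, fun a hav haw => ?_⟩
  have hh : ∀ e : Bl, (gg (a • e))⁻¹ * a * gg e ∈ H := fun e => by
    rw [MulAction.mem_stabilizer_iff, mul_smul, mul_smul, hgg, inv_smul_eq_iff, hgg]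
  have hcomp : ∀ (e : Bl) (z : V), a • z = z → (a • e).1 z = a • e.1 z := by
    intro e z hz
    change act A V a (e.1 (act A V a⁻¹ z)) = a • e.1 z
    rw [act_apply, act_apply, inv_smul_eq_iff.2 hz.symm]
  have hlocal : ∀ e : Bl, (⟨_, hh e⟩ : H) • (if e ∈ T then x₀ else y₀ : W) =
        (if a • e ∈ T then x₀ else y₀) ∧
      (⟨_, hh e⟩ : H) • (if e ∈ T then y₀ else x₀ : W) = (if a • e ∈ T then y₀ else x₀) := by
    intro e
    constructor <;> apply Subtype.ext
    · change ((gg (a • e))⁻¹ * a * gg e) • _ = _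
      rw [mul_smul, mul_smul, ← hv, ← hcomp e v hav, hv, inv_smul_smul]
    · change ((gg (a • e))⁻¹ * a * gg e) • _ = _
      rw [mul_smul, mul_smul, ← hw, ← hcomp e w haw, hw, inv_smul_smul]
  have hTinv : ∀ e : Bl, (a • e ∈ T ↔ e ∈ T) := by
    intro e
    obtain ⟨h2, h3⟩ := hlocal e
    by_cases he : e ∈ T <;> by_cases hae : a • e ∈ T <;> simp only [he, hae, if_true, if_false, iff_self] at h2 h3 ⊢
    · exact absurd h3 (no_swap hHodd hxy hreg _ h2)
    · exact absurd h2 (no_swap hHodd hxy hreg _ h3)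
  have hfix : ∀ e : Bl, a • e = e := hT a (Set.ext fun e => by
    rw [Set.mem_smul_set_iff_inv_smul_mem, ← hTinv, smul_inv_smul])
  intro z
  have hloc : ∀ e : Bl, ∀ u : W, a • (gg e • (u : V)) = gg e • (u : V) := by
    intro e u
    obtain ⟨h2, h3⟩ := hlocal e
    have hx : (⟨_, hh e⟩ : H) • x₀ = x₀ ∧ (⟨_, hh e⟩ : H) • y₀ = y₀ := by
      by_cases he : e ∈ T
      · simp only [he, (hTinv e).2 he, if_true] at h2 h3
        exact ⟨h2, h3⟩
      · have hae : a • e ∉ T := fun h => he ((hTinv e).1 h)
        simp only [he, hae, if_false] at h2 h3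
        exact ⟨h3, h2⟩
    have h4 : ((gg (a • e))⁻¹ * a * gg e) • (u : V) = (u : V) :=
      congrArg Subtype.val (hreg _ hx.1 hx.2 u)
    rw [mul_smul, mul_smul, inv_smul_eq_iff, hfix e] at h4
    exact h4
  have hz : z = ∑ e : Bl, e.1 z := by
    conv_lhs => rw [show z = S Finset.univ z by rw [hsum1]; rfl]
    exact AddMonoidHom.finsetSum_apply _ _ _
  rw [hz, Finset.smul_sum]
  refine Finset.sum_congr rfl fun e _ => ?_
  have h5 : (gg e)⁻¹ • e.1 z ∈ W := by
    have h6 := hmove (gg e)⁻¹ e (e.1 z) (DFunLike.congr_fun e.2.1.2 z)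
    rw [show (gg e)⁻¹ • e = b₀ by rw [inv_smul_eq_iff, hgg]] at h6
    exact h6
  have h7 := hloc e ⟨_, h5⟩
  rw [smul_inv_smul] at h7
  exact h7

end Cfsg.Lib.OddBase
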