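import Mathlib

/-!
Numerical lemmas for the primitive case.
-/

set_option autoImplicit false

namespace Cfsg.Lib.OddBase

/-- Twice the degree is at most the order of a finite field. -/
theorem two_mul_le_pow {p d : ℕ} (hp : 2 ≤ p) : 2 * d ≤ p ^ d := by
  rcases d with _ | d
  · simp
  have h1 : d + 1 ≤ 2 ^ d := Nat.lt_two_pow_self
  have h2 : 2 ^ (d + 1) ≤ p ^ (d + 1) := Nat.pow_le_pow_left hp _
  rw [pow_succ] at h2
  omega

/-- The case where the centraliser is the socle. -/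
theorem bound_small {Q δ z r : ℕ} (hQ : 4 ≤ Q) (hδ : 2 * δ ≤ Q) (hz : z ≤ Q - 1) (hr : 3 ≤ r) :
    δ * z * (r * r) ≤ Q ^ r := by
  have key : Q * (Q - 1) * (r * r) ≤ 2 * Q ^ r := by
    induction r, hr using Nat.le_induction with
    | base =>
      obtain ⟨t, rfl⟩ := Nat.exists_eq_add_of_le hQ
      rw [show 4 + t - 1 = 3 + t by omega]
      ring_nf
      nlinarith [Nat.zero_le (t * t), Nat.zero_le (t * t * t)]
    | succ r hr ih =>
      have h1 : (r + 1) * (r + 1) ≤ Q * (r * r) := by nlinarith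
      calc Q * (Q - 1) * ((r + 1) * (r + 1)) ≤ Q * (Q - 1) * (Q * (r * r)) :=
            Nat.mul_le_mul_left _ h1
        _ = Q * (Q * (Q - 1) * (r * r)) := by ring
        _ ≤ Q * (2 * Q ^ r) := Nat.mul_le_mul_left _ ih
        _ = 2 * Q ^ (r + 1) := by ring
  have h2 : 2 * (δ * z) ≤ Q * (Q - 1) := by
    calc 2 * (δ * z) = (2 * δ) * z := by ring
      _ ≤ Q * (Q - 1) := Nat.mul_le_mul hδ hz
  have h3 := Nat.mul_le_mul_right (r * r) h2
  nlinarith

theorem pow_eighteen {r : ℕ} (hr : 25 ≤ r) : r ^ 18 * 4 ^ 6 ≤ 64 * 4 ^ (2 * r) := by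
  induction r, hr using Nat.le_induction with
  | base => norm_num
  | succ r hr ih =>
    have h1 : (25 * (r + 1)) ^ 18 ≤ (26 * r) ^ 18 := Nat.pow_le_pow_left (by omega) 18
    rw [mul_pow, mul_pow] at h1
    have h2 : (r + 1) ^ 18 ≤ 16 * r ^ 18 := by
      have h3 : (26 : ℕ) ^ 18 ≤ 16 * 25 ^ 18 := by norm_num
      have h4 : 25 ^ 18 * (r + 1) ^ 18 ≤ 25 ^ 18 * (16 * r ^ 18) := by
        refine h1.trans ?_
        calc 26 ^ 18 * r ^ 18 ≤ 16 * 25 ^ 18 * r ^ 18 := Nat.mul_le_mul_right _ h3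
          _ = 25 ^ 18 * (16 * r ^ 18) := by ring
      exact Nat.le_of_mul_le_mul_left h4 (pow_pos (by norm_num) _)
    calc (r + 1) ^ 18 * 4 ^ 6 ≤ 16 * r ^ 18 * 4 ^ 6 := Nat.mul_le_mul_right _ h2
      _ = 16 * (r ^ 18 * 4 ^ 6) := by ring
      _ ≤ 16 * (64 * 4 ^ (2 * r)) := Nat.mul_le_mul_left _ ih
      _ = 64 * 4 ^ (2 * (r + 1)) := by ring

theorem large_aux {Q r : ℕ} (hQ : 4 ≤ Q) (hr : 11 ≤ r) (hodd : Odd r)
    (hdiv : ∀ s, s.Prime → s ∣ r → s < Q) (hne : r = 15 → 16 ≤ Q) :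
    Q ^ 6 * r ^ 18 ≤ 64 * Q ^ (2 * r) := by
  by_cases h25 : 25 ≤ r
  · have h1 := pow_eighteen h25
    obtain ⟨t, ht⟩ := Nat.exists_eq_add_of_le (show 6 ≤ 2 * r by omega)
    rw [ht, pow_add] at h1 ⊢
    have h2 : r ^ 18 ≤ 64 * 4 ^ t := Nat.le_of_mul_le_mul_left
      (by rw [mul_comm] at h1; calc 4 ^ 6 * r ^ 18 ≤ 64 * (4 ^ 6 * 4 ^ t) := h1
            _ = 4 ^ 6 * (64 * 4 ^ t) := by ring) (pow_pos (by norm_num) _)
    calc Q ^ 6 * r ^ 18 ≤ Q ^ 6 * (64 * 4 ^ t) := Nat.mul_le_mul_left _ h2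
      _ ≤ Q ^ 6 * (64 * Q ^ t) :=
        Nat.mul_le_mul_left _ (Nat.mul_le_mul_left _ (Nat.pow_le_pow_left hQ t))
      _ = 64 * (Q ^ 6 * Q ^ t) := by ring
  · have key : ∀ b, b ≤ Q → r ^ 18 ≤ 64 * b ^ (2 * r - 6) → Q ^ 6 * r ^ 18 ≤ 64 * Q ^ (2 * r) := by
      intro b hb h
      calc Q ^ 6 * r ^ 18 ≤ Q ^ 6 * (64 * b ^ (2 * r - 6)) := Nat.mul_le_mul_left _ h
        _ ≤ Q ^ 6 * (64 * Q ^ (2 * r - 6)) :=
          Nat.mul_le_mul_left _ (Nat.mul_le_mul_left _ (Nat.pow_le_pow_left hb _))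
        _ = 64 * (Q ^ 6 * Q ^ (2 * r - 6)) := by ring
        _ = 64 * Q ^ (2 * r) := by rw [← pow_add]; congr 2; omega
    obtain ⟨m, rfl⟩ := hodd
    have : m ≤ 11 := by omega
    have : 5 ≤ m := by omega
    interval_cases m
    · exact key 12 (hdiv 11 (by norm_num) (by norm_num)) (by norm_num)
    · exact key 14 (hdiv 13 (by norm_num) (by norm_num)) (by norm_num)
    · exact key 16 (hne rfl) (by norm_num)
    · exact key 18 (hdiv 17 (by norm_num) (by norm_num)) (by norm_num)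
    · exact key 20 (hdiv 19 (by norm_num) (by norm_num)) (by norm_num)
    · exact key 8 (hdiv 7 (by norm_num) (by norm_num)) (by norm_num)
    · exact key 24 (hdiv 23 (by norm_num) (by norm_num)) (by norm_num)

/-- The general case. -/
theorem bound_big {p d Q δ z r X : ℕ} (hp : p.Prime) (hQd : Q = p ^ d) (hd : d ≠ 0) (hδ : δ ≤ d)
    (hzQ : z ∣ Q - 1) (hzodd : Odd z) (hrodd : Odd r) (hr : 5 ≤ r)
    (hdiv : ∀ s, s.Prime → s ∣ r → s ∣ z)
    (hX5 : r = 5 → X ≤ 3) (hX7 : r = 7 → X ≤ 9) (hX9 : r = 9 → X ≤ 5)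
    (hX : 2 * X ≤ r ^ 4) :
    (δ * z * (r * r) * X) ^ 3 ≤ Q ^ (2 * r) := by
  have hd2 : 2 * δ ≤ Q := by
    rw [hQd]; exact (by omega : 2 * δ ≤ 2 * d).trans (two_mul_le_pow hp.two_le)
  obtain ⟨s, hs, hsr⟩ := Nat.exists_prime_and_dvd (n := r) (by omega)
  have hQ2 : 2 ≤ Q := by rw [hQd]; exact hp.two_le.trans (Nat.le_self_pow hd p)
  have hzle : z ≤ Q - 1 := Nat.le_of_dvd (by omega) hzQ
  have hzq : ∀ t, t.Prime → t ∣ r → t < Q := by
    intro t ht htr
    have := Nat.le_of_dvd (by omega) ((hdiv t ht htr).trans hzQ)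
    omega
  have hQ4 : 4 ≤ Q := by
    have h2 : 2 < s := by
      rcases hs.eq_two_or_odd' with h | h
      · exact absurd (even_iff_two_dvd.2 (h ▸ hsr)) (Nat.not_even_iff_odd.2 hrodd)
      · obtain ⟨k, hk⟩ := h; have := hs.two_le; omega
    have := hzq s hs hsr
    omega
  have hδz : 2 * (δ * z) ≤ Q ^ 2 := by
    calc 2 * (δ * z) = (2 * δ) * z := by ring
      _ ≤ Q * Q := Nat.mul_le_mul hd2 (hzle.trans (Nat.sub_le _ _))
      _ = Q ^ 2 := (pow_two Q).symm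
  have cube : ∀ a b, a ≤ b → a ^ 3 ≤ b ^ 3 := fun a b h => Nat.pow_le_pow_left h 3
  by_cases hr11 : 11 ≤ r
  · have h1 : 4 * (δ * z * (r * r) * X) ≤ Q ^ 2 * r ^ 6 := by
      calc 4 * (δ * z * (r * r) * X) = (2 * (δ * z)) * (r * r * (2 * X)) := by ring
        _ ≤ Q ^ 2 * (r * r * r ^ 4) := Nat.mul_le_mul hδz (Nat.mul_le_mul_left _ hX)
        _ = Q ^ 2 * r ^ 6 := by ring
    have h2 := cube _ _ h1
    rw [mul_pow 4, mul_pow (Q ^ 2)] at h2
    have h3 := large_aux hQ4 hr11 hrodd hzq (fun h15 => by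
      subst h15
      have h5 : 5 ∣ z := hdiv 5 (by norm_num) (by norm_num)
      have h3 : 3 ∣ z := hdiv 3 (by norm_num) (by norm_num)
      have h15 : 15 ∣ z := Nat.Coprime.mul_dvd_of_dvd_of_dvd (by norm_num) h5 h3
      have := Nat.le_of_dvd hzodd.pos h15
      omega)
    have h4 : 64 * (δ * z * (r * r) * X) ^ 3 ≤ 64 * Q ^ (2 * r) := by
      calc 64 * (δ * z * (r * r) * X) ^ 3 = 4 ^ 3 * (δ * z * (r * r) * X) ^ 3 := by norm_num
        _ ≤ (Q ^ 2) ^ 3 * (r ^ 6) ^ 3 := h2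
        _ = Q ^ 6 * r ^ 18 := by ring
        _ ≤ 64 * Q ^ (2 * r) := h3
    omega
  · obtain ⟨m, rfl⟩ := hrodd
    have : m ≤ 4 := by omega
    have : 2 ≤ m := by omega
    interval_cases m
    · have h5 : 5 ∣ z := hdiv 5 (by norm_num) (by norm_num)
      have hX3 := hX5 rfl
      by_cases h16 : 16 ≤ Q
      · have h1 : 2 * (δ * z * ((2 * 2 + 1) * (2 * 2 + 1)) * X) ≤ Q ^ 2 * 75 := by
          calc 2 * (δ * z * ((2 * 2 + 1) * (2 * 2 + 1)) * X) = (2 * (δ * z)) * (25 * X) := by ring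
            _ ≤ Q ^ 2 * 75 := Nat.mul_le_mul hδz (by omega)
        have h2 := cube _ _ h1
        rw [mul_pow 2, mul_pow (Q ^ 2)] at h2
        have h3 : 75 ^ 3 ≤ 8 * Q ^ 4 :=
          le_trans (by norm_num) (Nat.mul_le_mul_left 8 (Nat.pow_le_pow_left h16 4))
        have h4 : (Q ^ 2) ^ 3 * 75 ^ 3 ≤ (Q ^ 2) ^ 3 * (8 * Q ^ 4) := Nat.mul_le_mul_left _ h3
        have h5' : 2 ^ 3 * (δ * z * ((2 * 2 + 1) * (2 * 2 + 1)) * X) ^ 3 ≤ 8 * Q ^ (2 * (2 * 2 + 1)) :=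
          h2.trans (h4.trans (le_of_eq (by ring)))
        norm_num at h5' ⊢
        omega
      · have hQc : Q = 6 ∨ Q = 11 := by
          have h6 : 5 ∣ Q - 1 := h5.trans hzQ
          omega
        have hd1 : δ ≤ 1 := by
          by_contra hcon
          have h2d : 2 ≤ d := by omega
          rcases hQc with h | h <;> subst h
          · have : p ∣ 6 := hQd ▸ dvd_pow_self p (by omega)
            have hp6 : p ≤ 6 := Nat.le_of_dvd (by norm_num) this
            have h1 : p ^ 2 ≤ 6 := hQd ▸ Nat.pow_le_pow_right hp.pos h2d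
            interval_cases p <;> first | omega | (norm_num at hp) | skip
            all_goals
              have h7 : d ≤ 2 := by
                by_contra h
                have := Nat.pow_le_pow_right (show 0 < 2 by norm_num) (show 3 ≤ d by omega)
                omega
              obtain rfl : d = 2 := by omega
              norm_num at hQd
          · have : p ∣ 11 := hQd ▸ dvd_pow_self p (by omega)
            rcases (Nat.dvd_prime (by norm_num)).1 this with h | h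
            · exact hp.ne_one h
            · subst h
              have := Nat.pow_le_pow_right (show 0 < 11 by norm_num) h2d
              omega
        have hz5 : z = 5 := by
          rcases hQc with h | h <;> subst h
          · have := Nat.le_of_dvd hzodd.pos h5
            omega
          · obtain ⟨k, hk⟩ := hzodd
            have h9 := Nat.le_of_dvd (by omega) h5
            obtain ⟨j, hj⟩ := h5
            have : z ≤ 10 := by omega
            omega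
        subst hz5
        calc (δ * 5 * ((2 * 2 + 1) * (2 * 2 + 1)) * X) ^ 3 ≤ (1 * 5 * 25 * 3) ^ 3 :=
              cube _ _ (by gcongr <;> omega)
          _ ≤ 6 ^ (2 * (2 * 2 + 1)) := by norm_num
          _ ≤ Q ^ (2 * (2 * 2 + 1)) := Nat.pow_le_pow_left (by omega) _
    · have hQ8 : 8 ≤ Q := hzq 7 (by norm_num) (by norm_num)
      have hX9' := hX7 rfl
      have h1 : 2 * (δ * z * ((2 * 3 + 1) * (2 * 3 + 1)) * X) ≤ Q ^ 2 * 441 := by
        calc 2 * (δ * z * ((2 * 3 + 1) * (2 * 3 + 1)) * X) = (2 * (δ * z)) * (49 * X) := by ring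
          _ ≤ Q ^ 2 * 441 := Nat.mul_le_mul hδz (by omega)
      have h2 := cube _ _ h1
      rw [mul_pow 2, mul_pow (Q ^ 2)] at h2
      have h3 : 441 ^ 3 ≤ 8 * Q ^ 8 :=
        le_trans (by norm_num) (Nat.mul_le_mul_left 8 (Nat.pow_le_pow_left hQ8 8))
      have h4 : (Q ^ 2) ^ 3 * 441 ^ 3 ≤ (Q ^ 2) ^ 3 * (8 * Q ^ 8) := Nat.mul_le_mul_left _ h3
      have h5' : 2 ^ 3 * (δ * z * ((2 * 3 + 1) * (2 * 3 + 1)) * X) ^ 3 ≤ 8 * Q ^ (2 * (2 * 3 + 1)) :=
        h2.trans (h4.trans (le_of_eq (by ring)))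
      norm_num at h5' ⊢
      omega
    · have hX5' := hX9 rfl
      have h1 : 2 * (δ * z * ((2 * 4 + 1) * (2 * 4 + 1)) * X) ≤ Q ^ 2 * 405 := by
        calc 2 * (δ * z * ((2 * 4 + 1) * (2 * 4 + 1)) * X) = (2 * (δ * z)) * (81 * X) := by ring
          _ ≤ Q ^ 2 * 405 := Nat.mul_le_mul hδz (by omega)
      have h2 := cube _ _ h1
      rw [mul_pow 2, mul_pow (Q ^ 2)] at h2
      have h3 : 405 ^ 3 ≤ 8 * Q ^ 12 :=
        le_trans (by norm_num) (Nat.mul_le_mul_left 8 (Nat.pow_le_pow_left hQ4 12))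
      have h4 : (Q ^ 2) ^ 3 * 405 ^ 3 ≤ (Q ^ 2) ^ 3 * (8 * Q ^ 12) := Nat.mul_le_mul_left _ h3
      have h5' : 2 ^ 3 * (δ * z * ((2 * 4 + 1) * (2 * 4 + 1)) * X) ^ 3 ≤ 8 * Q ^ (2 * (2 * 4 + 1)) :=
        h2.trans (h4.trans (le_of_eq (by ring)))
      norm_num at h5' ⊢
      omega

end Cfsg.Lib.OddBase
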