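import Cfsg.Agent.OddBase.Pairing
import Cfsg.Agent.S0205

/-!
The action on the socle modulo `Z`: bounds on the index of the socle in the centraliser.
-/

set_option autoImplicit false
set_option linter.unusedSectionVars false

namespace Cfsg.Lib.OddBase

open Subgroup

universe u

variable {A : Type u} [Group A] [Finite A] [Group.IsSolvable A] {Z : Subgroup A} [Z.Normal]
  [IsMulCommutative Z] {K : Type u} [Field K]

/-- The index of the socle in the centraliser is small. -/
theorem socle_bounds {N : ℕ} (hb : Below.{u} N) (hA : Odd (Nat.card A)) (hN : Nat.card A ≤ N)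
    {ι : Z →* Kˣ} (hι : Function.Injective ι) (hmax : MaxAbelian Z)
    (hne : ¬ Subgroup.centralizer (Z : Set A) ≤ Z) {r : ℕ}
    (hr : Z.relIndex (socle Z (Subgroup.centralizer (Z : Set A))) = r * r) :
    let Y := (socle Z (Subgroup.centralizer (Z : Set A))).relIndex (Subgroup.centralizer (Z : Set A))
    3 ≤ r ∧ Odd r ∧ 2 * Y ≤ r ^ 4 ∧ (r = 3 → Y = 1) ∧ (r = 5 → Y ≤ 3) ∧ (r = 7 → Y ≤ 9) ∧
      (r = 9 → Y ≤ 5) := by
  classical
  intro Y
  set C := Subgroup.centralizer (Z : Set A) with hC
  set L := socle Z C with hL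
  have hZL : Z < L := exists_socle hne
  have hLC : L ≤ C := socle_le Z C
  have hr1 : r * r ≠ 1 := fun h => not_le_of_gt hZL (Subgroup.relIndex_eq_one.1 (hr.trans h))
  have hrodd : Odd r := by
    have h : Odd (r * r) := hr ▸ (hA.of_dvd_nat L.card_subgroup_dvd_card).of_dvd_nat
      (Subgroup.index_dvd_card (Z.subgroupOf L))
    exact (Nat.odd_mul.1 h).1
  have hr3 : 3 ≤ r := by
    obtain ⟨m, rfl⟩ := hrodd
    rcases m with _ | m
    · exact absurd rfl hr1
    · omega
  -- the module
  letI : CommGroup (socBar Z C) :=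
    { (inferInstance : Group (socBar Z C)) with
      mul_comm := fun x y => Subtype.ext (socBar_comm x.2 y.2) }
  haveI : (socBar Z C).Normal :=
    Subgroup.Normal.map (socle_normal Z C) _ (QuotientGroup.mk'_surjective Z)
  let W := Additive (socBar Z C)
  let φ : A →* MulAut (socBar Z C) := MulAut.conjNormal.comp (QuotientGroup.mk' Z)
  letI : DistribMulAction A W :=
    { smul := fun a x => Additive.ofMul (φ a (Additive.toMul x))
      one_smul := fun x => by
        change Additive.ofMul (φ 1 (Additive.toMul x)) = x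
        rw [map_one]; rfl
      mul_smul := fun a b x => by
        change Additive.ofMul (φ (a * b) (Additive.toMul x)) =
          Additive.ofMul (φ a (φ b (Additive.toMul x)))
        rw [map_mul]; rfl
      smul_zero := fun a => congrArg Additive.ofMul (map_one (φ a))
      smul_add := fun a x y => congrArg Additive.ofMul (map_mul (φ a) _ _) }
  let cl : L → W := fun l => Additive.ofMul ⟨QuotientGroup.mk' Z l, Subgroup.mem_map_of_mem _ l.2⟩
  have hclsurj : Function.Surjective cl := by
    intro x
    obtain ⟨l, hl, hlx⟩ := (Additive.toMul x).2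
    exact ⟨⟨l, hl⟩, congrArg Additive.ofMul (Subtype.ext hlx)⟩
  have hclmul : ∀ l m : L, cl (l * m) = cl l + cl m := fun l m => rfl
  have hcl0 : ∀ l : L, cl l = 0 ↔ (l : A) ∈ Z := fun l => by
    constructor
    · intro h
      exact (QuotientGroup.eq_one_iff (l : A)).1 (congrArg Subtype.val (Additive.ofMul.injective h))
    · intro h
      exact congrArg Additive.ofMul (Subtype.ext ((QuotientGroup.eq_one_iff (l : A)).2 h))
  have hclsmul : ∀ (a : A) (l : L),
      cl ⟨a * l * a⁻¹, (socle_normal Z C).conj_mem _ l.2 a⟩ = a • cl l := fun a l =>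
    congrArg Additive.ofMul (Subtype.ext (by
      change _ = ((MulAut.conjNormal (QuotientGroup.mk' Z a) _ : socBar Z C) : A ⧸ Z)
      rw [MulAut.conjNormal_apply]
      rfl))
  have hWcard : Nat.card W = r * r := by
    rw [← hr]
    change Nat.card (socBar Z C) = _
    rw [socBar, ← Subgroup.relIndex_ker, QuotientGroup.ker_mk']
  haveI : Nontrivial W := by
    rw [← Finite.one_lt_card_iff_nontrivial, hWcard]
    nlinarith
  have htriv : ∀ a ∈ C, (∀ x : W, a • x = x) → a ∈ L := by
    intro a haC ha
    refine mem_socle hι hmax hne haC fun l hl => ?_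
    have h1 := ha (cl ⟨l, hl⟩)
    rw [← hclsmul] at h1
    have h2 := congrArg Subtype.val (Additive.ofMul.injective h1)
    change (QuotientGroup.mk (a * l * a⁻¹) : A ⧸ Z) = QuotientGroup.mk l at h2
    rw [← QuotientGroup.eq_one_iff]
    rw [QuotientGroup.mk_mul, h2, QuotientGroup.mk_inv, mul_inv_cancel]
  have htrivL : ∀ a ∈ L, ∀ x : W, a • x = x := by
    intro a ha x
    obtain ⟨l, rfl⟩ := hclsurj x
    rw [← hclsmul]
    refine congrArg Additive.ofMul (Subtype.ext ?_)
    change (QuotientGroup.mk (a * (l : A) * a⁻¹) : A ⧸ Z) = QuotientGroup.mk (l : A)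
    have hmem := socle_comm (Subgroup.commutator_mem_commutator ha l.2)
    rw [commutatorElement_def] at hmem
    calc (QuotientGroup.mk (a * (l : A) * a⁻¹) : A ⧸ Z)
        = QuotientGroup.mk (a * (l : A) * a⁻¹ * (l : A)⁻¹ * l) := by rw [inv_mul_cancel_right]
      _ = QuotientGroup.mk (l : A) := by
        rw [QuotientGroup.mk_mul, (QuotientGroup.eq_one_iff _).2 hmem, one_mul]
  -- the image
  let π : A →* (AddMonoid.End W)ˣ := (DistribMulAction.toAddMonoidEnd A W).toHomUnits
  let X := π.range
  have hXsmul : ∀ (a : A) (x : W), (⟨π a, a, rfl⟩ : X) • x = a • x := fun a x => rfl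
  haveI : FaithfulSMul X W := ⟨fun {s t} h => Subtype.ext (Units.ext (AddMonoidHom.ext h))⟩
  haveI : Finite X := Finite.of_surjective _ π.rangeRestrict_surjective
  haveI : Group.IsSolvable X := Group.isSolvable_of_surjective π.rangeRestrict_surjective
  have hXodd : Odd (Nat.card X) := hA.of_dvd_nat (Subgroup.card_range_dvd π)
  have hXlt : Nat.card X < N := by
    refine lt_of_lt_of_le ?_ hN
    have h1 : π.ker.index = Nat.card X := Subgroup.index_ker π
    have h2 : 1 < Nat.card π.ker := by
      refine (Subgroup.one_lt_card_iff_ne_bot _).2 fun hb => ?_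
      have hLk : L ≤ π.ker := fun l hl =>
        Units.ext (AddMonoidHom.ext fun x => htrivL l hl x)
      rw [hb] at hLk
      exact not_le_of_gt hZL (hLk.trans bot_le)
    rw [← π.ker.card_mul_index, ← h1]
    exact lt_mul_of_one_lt_left (Nat.pos_of_ne_zero π.ker.index_ne_zero_of_finite) h2
  have hcr : CR X W := by
    intro U hU
    have hU' : ∀ a : A, ∀ v ∈ U, a • v ∈ U := fun a v hv => hU ⟨π a, a, rfl⟩ v hv
    let U0 : Subgroup A :=
      { carrier := {x | ∃ h : x ∈ L, cl ⟨x, h⟩ ∈ U}
        one_mem' := ⟨one_mem L, by rw [(hcl0 _).2 (one_mem Z)]; exact zero_mem U⟩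
        mul_mem' := fun {x y} hx hy => by
          obtain ⟨hx, hxU⟩ := hx
          obtain ⟨hy, hyU⟩ := hy
          exact ⟨mul_mem hx hy, by
            rw [show (⟨x * y, mul_mem hx hy⟩ : L) = ⟨x, hx⟩ * ⟨y, hy⟩ from rfl, hclmul]
            exact add_mem hxU hyU⟩
        inv_mem' := fun {x} hx => by
          obtain ⟨hx, hxU⟩ := hx
          refine ⟨inv_mem hx, ?_⟩
          have h0 : cl ⟨x⁻¹, inv_mem hx⟩ + cl ⟨x, hx⟩ = 0 := by
            rw [← hclmul]
            exact (hcl0 _).2 (by simp)
          rw [eq_neg_of_add_eq_zero_left h0]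
          exact neg_mem hxU }
    have hU0n : U0.Normal := ⟨fun x hx g => by
      obtain ⟨hx, hxU⟩ := hx
      exact ⟨(socle_normal Z C).conj_mem x hx g, hclsmul g ⟨x, hx⟩ ▸ hU' g _ hxU⟩⟩
    have hZU : Z ≤ U0 := fun z hz => ⟨hZL.le hz, by rw [(hcl0 _).2 hz]; exact zero_mem U⟩
    have hUL : U0 ≤ L := fun x hx => hx.1
    obtain ⟨T, hTn, hZT, hTL, hTU, hsup⟩ := socle_complement hU0n hZU hUL hZL.le
    let T0 : AddSubgroup W :=
      { carrier := {w | ∃ l : L, (l : A) ∈ T ∧ cl l = w}
        zero_mem' := ⟨1, one_mem T, (hcl0 1).2 (one_mem Z)⟩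
        add_mem' := fun {x y} hx hy => by
          obtain ⟨l, hl, rfl⟩ := hx
          obtain ⟨m, hm, rfl⟩ := hy
          exact ⟨l * m, mul_mem hl hm, hclmul l m⟩
        neg_mem' := fun {x} hx => by
          obtain ⟨l, hl, rfl⟩ := hx
          refine ⟨l⁻¹, inv_mem hl, eq_neg_of_add_eq_zero_left ?_⟩
          rw [← hclmul]
          exact (hcl0 _).2 (by simp) }
    refine ⟨T0, ?_, ?_, ?_⟩
    · rintro ⟨_, a, rfl⟩ w ⟨l, hl, rfl⟩
      exact ⟨⟨_, (socle_normal Z C).conj_mem _ l.2 a⟩, hTn.conj_mem _ hl a,
        (hclsmul a l).trans (hXsmul a _).symm⟩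
    · rw [eq_bot_iff]
      rintro w ⟨hwU, l, hl, rfl⟩
      have : (l : A) ∈ T ⊓ U0 := ⟨hl, l.2, hwU⟩
      rw [hTU] at this
      exact AddSubgroup.mem_bot.2 ((hcl0 l).2 this)
    · rw [eq_top_iff]
      intro w _
      obtain ⟨l, rfl⟩ := hclsurj w
      haveI := hTn
      have hl : (l : A) ∈ ((U0 ⊔ T : Subgroup A) : Set A) := by rw [hsup]; exact l.2
      rw [Subgroup.mul_normal] at hl
      obtain ⟨x, hx, y, hy, hxy⟩ := hl
      obtain ⟨hxL, hxU⟩ := hx
      have : l = ⟨x, hxL⟩ * ⟨y, hTL hy⟩ := Subtype.ext hxy.symm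
      rw [this, hclmul]
      exact AddSubgroup.mem_sup.2 ⟨_, hxU, _, ⟨⟨y, hTL hy⟩, hy, rfl⟩, rfl⟩
  have hYX : Y ≤ Nat.card X := by
    have h1 : π.ker ⊓ C = L := by
      refine le_antisymm (fun a ha => htriv a ha.2 fun x => ?_)
        (le_inf (fun l hl => Units.ext (AddMonoidHom.ext fun x => htrivL l hl x)) hLC)
      exact DFunLike.congr_fun (congrArg Units.val (ha.1 : π a = 1)) x
    change L.relIndex C ≤ _
    rw [← h1, Subgroup.inf_relIndex_right, Subgroup.relIndex_ker]
    exact Nat.card_le_card_of_injective _ (Subgroup.inclusion_injective (Subgroup.map_le_range π C))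
  have hX2 : 2 * Nat.card X ≤ r ^ 4 := by
    have := card_le hXodd (hb X W hXlt hXodd hcr)
    rw [hWcard] at this
    calc 2 * Nat.card X ≤ (r * r) ^ 2 := this
      _ = r ^ 4 := by ring
  -- prime power cases
  have hexp : ∀ q k : ℕ, q.Prime → r * r = q ^ k → ∀ x : W, q • x = 0 := by
    intro q k hq hqk x
    have hcm : ∀ l m : L, Commute ((l : A) : A ⧸ Z) ((m : A) : A ⧸ Z) := fun l m =>
      socBar_comm (Subgroup.mem_map_of_mem _ l.2) (Subgroup.mem_map_of_mem _ m.2)
    let T : Subgroup A :=
      { carrier := {x | x ∈ L ∧ x ^ q ∈ Z}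
        one_mem' := ⟨one_mem L, by rw [one_pow]; exact one_mem Z⟩
        mul_mem' := fun {x y} hx hy => ⟨mul_mem hx.1 hy.1, by
          rw [← QuotientGroup.eq_one_iff, QuotientGroup.mk_pow, QuotientGroup.mk_mul,
            (hcm ⟨x, hx.1⟩ ⟨y, hy.1⟩).mul_pow, ← QuotientGroup.mk_pow, ← QuotientGroup.mk_pow,
            (QuotientGroup.eq_one_iff _).2 hx.2, (QuotientGroup.eq_one_iff _).2 hy.2, mul_one]⟩
        inv_mem' := fun {x} hx => ⟨inv_mem hx.1, by rw [inv_pow]; exact inv_mem hx.2⟩ }
    have hLT : L ≤ T := sSup_le fun M hM y hy => by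
      obtain ⟨q', hq', hdvd, hMexp⟩ := layer_exp hM
      have h1 : q' ∣ q ^ k := hqk ▸ hr ▸ hdvd.trans
        (Dvd.intro _ (Subgroup.relIndex_mul_relIndex Z M L hM.2.1.le (layer_le_socle hM)))
      obtain rfl : q' = q := (Nat.prime_dvd_prime_iff_eq hq' hq).1 (hq'.dvd_of_dvd_pow h1)
      exact ⟨layer_le_socle hM hy, hMexp y hy⟩
    obtain ⟨l, rfl⟩ := hclsurj x
    apply Additive.toMul.injective
    rw [toMul_nsmul, toMul_zero]
    apply Subtype.ext
    rw [Subgroup.coe_pow]
    change ((l : A) : A ⧸ Z) ^ q = 1
    rw [← QuotientGroup.mk_pow, QuotientGroup.eq_one_iff]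
    exact (hLT l.2).2
  have hdvdGL : ∀ q k : ℕ, q.Prime → r * r = q ^ k →
      Nat.card X ∣ ∏ i : Fin k, (q ^ k - q ^ (i : ℕ)) := by
    intro q k hq hqk
    haveI : Fact q.Prime := ⟨hq⟩
    rw [← card_units_end (V := W) q k (hexp q k hq hqk) (hWcard.trans hqk)]
    exact Subgroup.card_subgroup_dvd_card X
  have hcore : ∀ q k : ℕ, q.Prime → r * r = q ^ k →
      ∀ U : Subgroup X, U.Normal → IsPGroup q U → U = ⊥ := by
    intro q k hq hqk U hU hUq
    haveI : Fact q.Prime := ⟨hq⟩
    haveI := hU
    exact normal_qgroup_trivial hcr q k (hWcard.trans hqk) U hUq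
  refine ⟨hr3, hrodd, (Nat.mul_le_mul_left 2 hYX).trans hX2, ?_, ?_, ?_, ?_⟩
  · rintro rfl
    haveI : Fact (Nat.Prime 3) := ⟨by norm_num⟩
    have h1 : Nat.card X ∣ 3 * 2 ^ 4 := by
      simpa [Fin.prod_univ_two] using hdvdGL 3 2 (by norm_num) (by norm_num)
    obtain ⟨j, -, hj⟩ := (Nat.dvd_prime_pow (Fact.out : Nat.Prime 3)).1
      ((pow_one 3).symm ▸ odd_dvd_of_dvd_mul_two_pow hXodd h1 : Nat.card X ∣ 3 ^ 1)
    have h2 := hcore 3 2 (by norm_num) (by norm_num) ⊤ inferInstance
      (IsPGroup.of_card (n := j) (Subgroup.card_top.trans hj))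
    have h3 : Nat.card X = 1 := by rw [← Subgroup.card_top, h2, Subgroup.card_bot]
    have h4 : 0 < Y := Nat.pos_of_ne_zero (Subgroup.index_ne_zero_of_finite (H := L.subgroupOf C))
    omega
  · rintro rfl
    haveI : Fact (Nat.Prime 5) := ⟨by norm_num⟩
    haveI : Fact (Nat.Prime 3) := ⟨by norm_num⟩
    have h1 : Nat.card X ∣ (3 * 5 ^ 1) * 2 ^ 5 := by
      simpa [Fin.prod_univ_two] using hdvdGL 5 2 (by norm_num) (by norm_num)
    have h2 := core_bound (X := X) (s := 3) (q := 5) (by norm_num) (odd_dvd_of_dvd_mul_two_pow hXodd h1)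
      (hcore 5 2 (by norm_num) (by norm_num))
    exact hYX.trans (Nat.le_of_dvd (by norm_num)
      (odd_dvd_of_dvd_mul_two_pow (c := 3) (k := 1) hXodd h2))
  · rintro rfl
    have h1 : Nat.card X ∣ 63 * 2 ^ 5 := by
      simpa [Fin.prod_univ_two] using hdvdGL 7 2 (by norm_num) (by norm_num)
    exact hYX.trans (Nat.le_of_dvd (by norm_num)
      (not_seven (odd_dvd_of_dvd_mul_two_pow hXodd h1) (hcore 7 2 (by norm_num) (by norm_num))))
  · rintro rfl
    haveI : Fact (Nat.Prime 13) := ⟨by norm_num⟩
    haveI : Fact (Nat.Prime 5) := ⟨by norm_num⟩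
    haveI : Fact (Nat.Prime 3) := ⟨by norm_num⟩
    have h1 : Nat.card X ∣ ((5 * 3 ^ 6) * 13) * 2 ^ 9 := by
      simpa [Fin.prod_univ_four] using hdvdGL 3 4 (by norm_num) (by norm_num)
    have h2 := odd_dvd_of_dvd_mul_two_pow hXodd h1
    have h13 : ¬ 13 ∣ Nat.card X := by
      intro hdvd
      obtain ⟨⟨_, a, rfl⟩, hord⟩ := exists_prime_orderOf_dvd_card' (G := X) 13 hdvd
      set τ : X := ⟨π a, a, rfl⟩
      have hp : IsPGroup 13 (Subgroup.zpowers τ) :=
        IsPGroup.of_card (n := 1) (by rw [Nat.card_zpowers, hord, pow_one])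
      have hmod := hp.card_modEq_card_fixedPoints W
      let F : AddSubgroup W :=
        { carrier := {x | a • x = x}
          zero_mem' := smul_zero a
          add_mem' := fun {x y} hx hy => by
            change a • (x + y) = x + y
            rw [smul_add, hx, hy]
          neg_mem' := fun {x} hx => by
            change a • (-x) = -x
            rw [smul_neg, hx] }
      have hFeq : MulAction.fixedPoints (Subgroup.zpowers τ) W = {x : W | a • x = x} := by
        ext x
        constructor
        · intro h; exact h ⟨τ, Subgroup.mem_zpowers τ⟩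
        · intro h g
          have hz : (g : X) ∈ MulAction.stabilizer X x :=
            Subgroup.zpowers_le.2 (show τ ∈ MulAction.stabilizer X x from h) g.2
          exact hz
      rw [hFeq, hWcard] at hmod
      change _ ≡ Nat.card F [MOD 13] at hmod
      obtain ⟨i, hi, hFi⟩ := (Nat.dvd_prime_pow (Fact.out : Nat.Prime 3)).1
        (show Nat.card F ∣ 3 ^ 4 from (by rw [hWcard]; norm_num : Nat.card W = 3 ^ 4) ▸ F.card_addSubgroup_dvd_card)
      rw [hFi, Nat.ModEq] at hmod
      have hi4 : i ≠ 4 := by
        rintro rfl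
        have htop : F = ⊤ := by
          apply AddSubgroup.eq_top_of_card_eq
          rw [hFi, hWcard]
          norm_num
        have : τ = 1 := eq_of_smul_eq_smul fun x : W => by
          rw [one_smul]
          exact (show x ∈ F from htop ▸ AddSubgroup.mem_top x)
        rw [this, orderOf_one] at hord
        norm_num at hord
      have hi1 : i = 1 := by
        interval_cases i <;> first | rfl | exact absurd rfl hi4 | norm_num at hmod
      subst hi1
      haveI : Nontrivial F := Finite.one_lt_card_iff_nontrivial.1 (by rw [hFi]; norm_num)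
      obtain ⟨⟨w, hwF⟩, hw0⟩ := exists_ne (0 : F)
      obtain ⟨l, rfl⟩ := hclsurj w
      -- the commutators with `a`
      let δ : W →+ W :=
        { toFun := fun x => a • x - x
          map_zero' := by simp
          map_add' := fun x y => by rw [smul_add]; abel }
      have hker : δ.ker = F := by
        ext x
        exact sub_eq_zero
      have hsum : F ⊔ δ.range = ⊤ := by
        have hinf : F ⊓ δ.range = ⊥ := by
          rw [eq_bot_iff]
          rintro x ⟨hx, y, rfl⟩
          have hfix : a • δ y = δ y := hx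
          have hpow : ∀ n : ℕ, (a ^ n) • y = y + n • δ y := by
            intro n
            induction n with
            | zero => simp
            | succ n ih =>
              rw [pow_succ', mul_smul, ih, smul_add]
              have h2 : a • (n • δ y) = n • δ y := by
                have h3 := map_nsmul (DistribSMul.toAddMonoidHom W a) n (δ y)
                change a • (n • δ y) = n • (a • δ y) at h3
                rw [h3, hfix]
              have h4 : a • y = y + δ y := by
                change a • y = y + (a • y - y); abel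
              rw [h2, h4, succ_nsmul]; abel
          have h13 := hpow 13
          have hτ13 : (a ^ 13) • y = y := by
            have hp1 : τ ^ 13 = 1 := hord ▸ pow_orderOf_eq_one τ
            have h5 : π (a ^ 13) = 1 := by
              rw [map_pow]
              exact congrArg Subtype.val hp1
            exact DFunLike.congr_fun (congrArg Units.val h5) y
          rw [hτ13] at h13
          have h6 : 13 • δ y = 0 := by
            have := h13.symm
            rwa [add_eq_left] at this
          have h7 : 3 • δ y = 0 := hexp 3 4 (by norm_num) (by norm_num) _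
          rw [AddSubgroup.mem_bot]
          have h8 : (13 : ℕ) • δ y = δ y := by
            rw [show (13 : ℕ) = 1 + 3 * 4 by norm_num, add_nsmul, mul_comm, mul_nsmul', h7, nsmul_zero, add_zero,
              one_nsmul]
          rw [← h8, h6]
        apply AddSubgroup.eq_top_of_card_eq
        refine le_antisymm ((Nat.card_le_card_of_injective _ Subtype.val_injective)) ?_
        have hprod : Nat.card F * Nat.card δ.range = Nat.card W := by
          rw [← AddSubgroup.index_ker, hker]
          exact F.card_mul_index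
        rw [← hprod, ← Nat.card_prod]
        refine Nat.card_le_card_of_injective (fun p : F × δ.range => (⟨(p.1 : W) + p.2,
          AddSubgroup.mem_sup.2 ⟨_, p.1.2, _, p.2.2, rfl⟩⟩ : (F ⊔ δ.range : AddSubgroup W))) ?_
        intro p p' h
        have h2 : (p.1 : W) + p.2 = p'.1 + p'.2 := congrArg Subtype.val h
        have h3 : (p.1 : W) - p'.1 ∈ F ⊓ δ.range := by
          refine AddSubgroup.mem_inf.2 ⟨sub_mem p.1.2 p'.1.2, ?_⟩
          rw [show (p.1 : W) - p'.1 = p'.2 - p.2 by
            rw [sub_eq_sub_iff_add_eq_add, h2, add_comm]]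
          exact sub_mem p'.2.2 p.2.2
        rw [hinf, AddSubgroup.mem_bot, sub_eq_zero] at h3
        rw [h3] at h2
        exact Prod.ext (Subtype.ext h3) (Subtype.ext (add_left_cancel h2))
      -- `l` is orthogonal to everything
      let S : AddSubgroup W :=
        { carrier := {x | ∀ m : L, cl m = x → form ι l m = 1}
          zero_mem' := fun m hm => (form_eq_one hι l m).2 (socle_central l.2 ((hcl0 m).1 hm)).symm
          add_mem' := fun {x y} hx hy m hm => by
            obtain ⟨mx, rfl⟩ := hclsurj x
            obtain ⟨my, rfl⟩ := hclsurj y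
            have hz : cl ((mx * my)⁻¹ * m) = 0 := by
              have h1 : cl ((mx * my) * ((mx * my)⁻¹ * m)) = cl mx + cl my := by
                rw [mul_inv_cancel_left, hm]
              rw [hclmul, hclmul] at h1
              exact add_eq_left.1 h1
            have : m = (mx * my) * ((mx * my)⁻¹ * m) := (mul_inv_cancel_left _ _).symm
            rw [this, form_mul_right, form_mul_right, hx mx rfl, hy my rfl,
              (form_eq_one hι l _).2 (socle_central l.2 ((hcl0 _).1 hz)).symm, mul_one, mul_one]
          neg_mem' := fun {x} hx m hm => by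
            have h1 : cl m⁻¹ = x := by
              have h0 : cl m⁻¹ + cl m = 0 := by rw [← hclmul]; exact (hcl0 _).2 (by simp)
              rw [eq_neg_of_add_eq_zero_left h0, hm, neg_neg]
            have h2 := form_mul_right ι l m⁻¹ m
            rw [inv_mul_cancel, hx _ h1, one_mul,
              (form_eq_one hι l 1).2 (by simp)] at h2
            exact h2.symm }
      have hSd : δ.range ≤ S := by
        rintro _ ⟨y, rfl⟩ m hm
        obtain ⟨k, rfl⟩ := hclsurj y
        let k' : L := ⟨a * k * a⁻¹, (socle_normal Z C).conj_mem _ k.2 a⟩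
        let l' : L := ⟨a * l * a⁻¹, (socle_normal Z C).conj_mem _ l.2 a⟩
        have hl' : cl l' = cl l := (hclsmul a l).trans hwF
        -- conjugation preserves the form
        let c : Z := ⟨(l : A) * k * (l : A)⁻¹ * (k : A)⁻¹,
          socle_comm (Subgroup.commutator_mem_commutator l.2 k.2)⟩
        have hc3 : c ^ 3 = 1 := by
          apply hι
          rw [map_one, map_pow]
          change form ι l k ^ 3 = 1
          have h0 : (formHom ι l) k ^ 3 = (formHom ι l) (k ^ 3) := (map_pow _ _ _).symm
          change (formHom ι l) k ^ 3 = 1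
          rw [h0]
          refine (form_eq_one hι l _).2 (socle_central l.2 ((hcl0 _).1 ?_)).symm
          have h3 : cl (k ^ 3) = 3 • cl k := by
            rw [pow_succ, pow_two, hclmul, hclmul, succ_nsmul, two_nsmul]
          rw [h3]
          exact hexp 3 4 (by norm_num) (by norm_num) _
        have hcconj : a * (c : A) * a⁻¹ = c := by
          -- an element of odd order cannot invert a cube root of unity
          let d : Z := ⟨a * c * a⁻¹, (inferInstance : Z.Normal).conj_mem _ c.2 a⟩
          have hd3 : d ^ 3 = 1 := Subtype.ext (by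
            rw [Subgroup.coe_pow]
            change (a * c * a⁻¹) ^ 3 = 1
            rw [conj_pow, ← Subgroup.coe_pow, hc3, Subgroup.coe_one, mul_one, mul_inv_cancel])
          have hroots : d = 1 ∨ d = c ∨ d = c ^ 2 := by
            by_cases hc1 : c = 1
            · left
              apply Subtype.ext
              change a * (c : A) * a⁻¹ = 1
              rw [hc1, Subgroup.coe_one, mul_one, mul_inv_cancel]
            have hu : ∀ z : Z, z ^ 3 = 1 → ((ι z : K)) ^ 3 = 1 := fun z hz => by
              rw [← Units.val_pow_eq_pow_val, ← map_pow, hz, map_one, Units.val_one]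
            have hne1 : (ι c : K) ≠ 1 := fun h => hc1 (hι (Units.ext (by rw [h, map_one, Units.val_one])))
            set u : K := (ι c : K)
            set v : K := (ι d : K)
            have hu3 : u ^ 3 = 1 := hu c hc3
            have hv3 : v ^ 3 = 1 := hu d hd3
            have hq : u ^ 2 + u + 1 = 0 := by
              have : (u - 1) * (u ^ 2 + u + 1) = 0 := by linear_combination hu3
              exact (mul_eq_zero.1 this).resolve_left (sub_ne_zero.2 hne1)
            have : (v - 1) * ((v - u) * (v - u ^ 2)) = 0 := by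
              linear_combination (v - v ^ 2) * hq + hv3 + (v - 1) * hu3
            rcases mul_eq_zero.1 this with h | h
            · left; exact hι (Units.ext (by rw [map_one, Units.val_one]; exact sub_eq_zero.1 h))
            rcases mul_eq_zero.1 h with h | h
            · right; left; exact hι (Units.ext (sub_eq_zero.1 h))
            · right; right
              refine hι (Units.ext ?_)
              rw [map_pow, Units.val_pow_eq_pow_val]
              exact sub_eq_zero.1 h
          rcases hroots with h | h | h
          · have h' := congrArg Subtype.val h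
            change a * (c : A) * a⁻¹ = 1 at h'
            have : (c : A) = 1 := by
              rw [← inv_mul_cancel_left a (c : A), ← mul_inv_cancel_right (a * (c : A)) a⁻¹]
              rw [h', one_mul, inv_inv, inv_mul_cancel]
            rw [this, mul_one, mul_inv_cancel]
          · exact congrArg Subtype.val h
          · have h' : a * (c : A) * a⁻¹ = (c : A) ^ 2 := congrArg Subtype.val h
            haveI : Finite (ConjAct A) := Finite.of_equiv A ConjAct.toConjAct.toEquiv
            refine smul_eq_of_sq (X := A) (A := ConjAct A) (by exact hA) (ConjAct.toConjAct a) (c : A) ?_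
            rw [mul_smul]
            simp only [ConjAct.toConjAct_smul]
            rw [h', ← conj_pow, h', ← pow_mul]
            calc (c : A) ^ (2 * 2) = (c : A) ^ 3 * (c : A) := by rw [← pow_succ]
              _ = (c : A) := by rw [← Subgroup.coe_pow, hc3, Subgroup.coe_one, one_mul]
        have hform : form ι l' k' = form ι l k := by
          change ι _ = ι _
          congr 1
          apply Subtype.ext
          rw [show (⟨(l : A) * k * (l : A)⁻¹ * (k : A)⁻¹, _⟩ : Z) = c from rfl, ← hcconj]
          change (a * l * a⁻¹) * (a * k * a⁻¹) * (a * l * a⁻¹)⁻¹ * (a * k * a⁻¹)⁻¹ =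
            a * ((l : A) * k * (l : A)⁻¹ * (k : A)⁻¹) * a⁻¹
          group
        have hlz : form ι l' k' = form ι l k' := by
          have hz : cl (l⁻¹ * l') = 0 := by
            have h0 : cl (l * (l⁻¹ * l')) = cl l := by rw [mul_inv_cancel_left, hl']
            rw [hclmul] at h0
            exact add_eq_left.1 h0
          have hz' : form ι (l⁻¹ * l') k' = 1 :=
            (form_eq_one hι _ _).2 (socle_central k'.2 ((hcl0 _).1 hz))
          conv_lhs => rw [show l' = l * (l⁻¹ * l') from (mul_inv_cancel_left _ _).symm,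
            form_mul_left, hz', mul_one]
        have hmk : cl (k'⁻¹ * (m * k)) = 0 := by
          have h0 : cl (k' * (k'⁻¹ * (m * k))) = cl k' := by
            rw [mul_inv_cancel_left, hclmul, hm, show cl k' = a • cl k from hclsmul a k]
            exact sub_add_cancel _ _
          rw [hclmul] at h0
          exact add_eq_left.1 h0
        have h9 : form ι l m * form ι l k = form ι l k' := by
          rw [← form_mul_right, show m * k = k' * (k'⁻¹ * (m * k)) from (mul_inv_cancel_left _ _).symm,
            form_mul_right, (form_eq_one hι l _).2 (socle_central l.2 ((hcl0 _).1 hmk)).symm, mul_one]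
        rw [← hlz, hform] at h9
        exact mul_eq_right.1 h9
      have hSF : F ≤ S := by
        intro x hx
        have hcF : Nat.card F = 3 := hFi.trans (pow_one 3)
        have hgen : (⟨x, hx⟩ : F) ∈ AddSubgroup.zmultiples (⟨cl l, hwF⟩ : F) :=
          mem_zmultiples_of_prime_card hcF hw0
        obtain ⟨n, hn⟩ := hgen
        have hlS : cl l ∈ S := by
          intro m hm
          have hz : cl (l⁻¹ * m) = 0 := by
            have h0 : cl (l * (l⁻¹ * m)) = cl l := by rw [mul_inv_cancel_left, hm]
            rw [hclmul] at h0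
            exact add_eq_left.1 h0
          rw [show m = l * (l⁻¹ * m) from (mul_inv_cancel_left _ _).symm, form_mul_right,
            (form_eq_one hι l l).2 rfl,
            (form_eq_one hι l _).2 (socle_central l.2 ((hcl0 _).1 hz)).symm, mul_one]
        rw [show x = n • cl l from (congrArg Subtype.val hn).symm]
        exact zsmul_mem hlS n
      have hStop : S = ⊤ := top_unique (hsum ▸ sup_le hSF hSd)
      refine hw0 (Subtype.ext ((hcl0 l).2 ?_))
      refine (socle_center hmax hne) ▸ ⟨l.2, Subgroup.mem_centralizer_iff.2 fun m hm => ?_⟩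
      exact ((form_eq_one hι l ⟨m, hm⟩).1
        ((show cl ⟨m, hm⟩ ∈ S from hStop ▸ AddSubgroup.mem_top _) ⟨m, hm⟩ rfl)).symm
    have h3 : Nat.card X ∣ 5 * 3 ^ 6 := Nat.Coprime.dvd_of_dvd_mul_right
      ((Nat.Prime.coprime_iff_not_dvd (by norm_num)).2 h13).symm h2
    have h4 := core_bound (X := X) (s := 5) (q := 3) (by norm_num) h3 (hcore 3 4 (by norm_num) (by norm_num))
    exact hYX.trans (Nat.le_of_dvd (by norm_num)
      (odd_dvd_of_dvd_mul_two_pow (c := 5) (k := 2) hXodd h4))

end Cfsg.Lib.OddBase
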