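import Cfsg.Agent.OddBase.Semilinear
import Cfsg.Agent.OddBase.SocleAction
import Cfsg.Agent.OddBase.Arith

/-!
The primitive case: the algebra of a maximal abelian normal subgroup is a field.
-/

set_option autoImplicit false
set_option linter.unusedSectionVars false

namespace Cfsg.Lib.OddBase

universe u

variable {A V : Type u} [Group A] [Finite A] [AddCommGroup V] [Finite V] [DistribMulAction A V]
  [FaithfulSMul A V] {Z : Subgroup A} [IsMulCommutative Z]

/-- An element fixes few vectors if a commutator with it does. -/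
theorem fix_commutator_le (g n : A) :
    Nat.card (fixS A V g) ^ 2 ≤ Nat.card V * Nat.card (fixS A V (g * n * g⁻¹ * n⁻¹)) := by
  refine fix_sq_le g n _ fun x hx hgx => ?_
  rw [mul_smul, mul_smul, mul_smul, inv_smul_smul, inv_smul_eq_iff.2 hx.symm, hgx]

/-- Non-trivial elements of the abelian normal subgroup fix only zero. -/
theorem card_fix_one (hf : ∀ k ∈ alg A V Z, k ≠ 0 → ∃ l ∈ alg A V Z, k * l = 1)
    {z : A} (hz : z ∈ Z) (hz1 : z ≠ 1) : Nat.card (fixS A V z) = 1 := by
  have : fixS A V z = ⊥ := (AddSubgroup.eq_bot_iff_forall _).2 fun y hy =>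
    eq_zero_of_smul_eq hf hz hz1 hy
  rw [this]
  exact AddSubgroup.card_bot

/-- An element outside the centraliser fixes at most the square root. -/
theorem fix_outside [Z.Normal] (hf : ∀ k ∈ alg A V Z, k ≠ 0 → ∃ l ∈ alg A V Z, k * l = 1)
    {g : A} (hg : g ∉ Subgroup.centralizer (Z : Set A)) :
    Nat.card (fixS A V g) ^ 2 ≤ Nat.card V := by
  obtain ⟨z, hz, hzg⟩ : ∃ z ∈ Z, z * g ≠ g * z := by
    by_contra hc
    push Not at hc
    exact hg (Subgroup.mem_centralizer_iff.2 hc)
  have h := fix_commutator_le (V := V) g z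
  rwa [card_fix_one hf (mul_mem ((inferInstance : Z.Normal).conj_mem z hz g) (inv_mem hz)) (fun h1 => hzg
    (by rw [mul_inv_eq_one, mul_inv_eq_iff_eq_mul] at h1; exact h1.symm)), mul_one] at h

/-- The algebra is a field if it has only trivial idempotents. -/
theorem alg_field [Nontrivial V] [Z.Normal] (hirr : Irr A V)
    (hidem : ∀ e ∈ alg A V Z, e * e = e → e = 0 ∨ e = 1) :
    ∀ k ∈ alg A V Z, k ≠ 0 → ∃ l ∈ alg A V Z, k * l = 1 := by
  obtain ⟨Q, hQ, hpow⟩ := alg_pow hirr Z
  obtain ⟨m, rfl⟩ := Nat.exists_eq_add_of_le hQ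
  intro k hk hk0
  have h1 : k ^ (2 + m) = k := hpow k hk
  have hid : k ^ (m + 1) * k ^ (m + 1) = k ^ (m + 1) := by
    rw [← pow_add, show m + 1 + (m + 1) = 2 + m + m by omega, pow_add, h1, ← pow_succ']
  rcases hidem _ (pow_mem hk (m + 1)) hid with h | h
  · exfalso
    apply hk0
    rw [← h1, show 2 + m = m + 1 + 1 by omega, pow_succ, h, zero_mul]
  · exact ⟨k ^ m, pow_mem hk m, by rw [← pow_succ', h]⟩

section Field

variable [Nontrivial V]

/-- The dimension over the field is at least the degree of the socle. -/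
theorem le_finrank [Group.IsSolvable A] [Z.Normal] {K : Type u} [Field K] [Finite K] [Module K V]
    (hcomm : ∀ g ∈ Subgroup.centralizer (Z : Set A), ∀ (k : K) (v : V), g • (k • v) = k • (g • v))
    {ι : Z →* Kˣ} (hι : Function.Injective ι)
    (hιv : ∀ (z : Z) (v : V), ((ι z : Kˣ) : K) • v = (z : A) • v)
    (hmax : MaxAbelian Z) (hne : ¬ Subgroup.centralizer (Z : Set A) ≤ Z) :
    Z.relIndex (socle Z (Subgroup.centralizer (Z : Set A))) ≤
      Module.finrank K V * Module.finrank K V := by
  classical
  set L := socle Z (Subgroup.centralizer (Z : Set A)) with hL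
  haveI : (Z.subgroupOf L).Normal := Subgroup.Normal.subgroupOf inferInstance L
  haveI : Fintype (L ⧸ Z.subgroupOf L) := Fintype.ofFinite _
  let T : L → (V →ₗ[K] V) := fun l =>
    { toFun := fun v => (l : A) • v
      map_add' := fun x y => smul_add _ x y
      map_smul' := fun k v => hcomm _ (socle_le Z _ l.2) k v }
  let χ : L ⧸ Z.subgroupOf L → (L →* K) := fun q =>
    (Units.coeHom K).comp
      (MonoidHom.mk' (fun m => form ι m q.out) fun m m' => form_mul_left ι m m' q.out)
  have hχ : Function.Injective χ := by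
    intro q q' h
    rw [← q.out_eq', ← q'.out_eq', QuotientGroup.eq, Subgroup.mem_subgroupOf]
    have h1 : ∀ m : L, form ι m (q.out⁻¹ * q'.out) = 1 := by
      intro m
      have h2 : form ι m q.out = form ι m q'.out := Units.ext (DFunLike.congr_fun h m)
      have h3 := form_mul_right ι m q.out (q.out⁻¹ * q'.out)
      rw [mul_inv_cancel_left, ← h2] at h3
      exact left_eq_mul.1 h3
    have h4 : ((q.out⁻¹ * q'.out : L) : A) ∈ L ⊓ Subgroup.centralizer (L : Set A) :=
      Subgroup.mem_inf.2 ⟨(q.out⁻¹ * q'.out).2, Subgroup.mem_centralizer_iff.2 fun m hm => ?_⟩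
    · exact (socle_center hmax hne).le h4
    exact (form_eq_one hι ⟨m, hm⟩ _).1 (h1 ⟨m, hm⟩)
  have hind : LinearIndependent K fun q : L ⧸ Z.subgroupOf L => T q.out := by
    rw [Fintype.linearIndependent_iff]
    intro c hc q
    have hev : ∀ (m : L) (v : V), ∑ i, (c i * χ i m) • ((i.out : A) • v) = 0 := by
      intro m v
      have h0 := LinearMap.congr_fun hc ((m : A)⁻¹ • v)
      simp only [LinearMap.coe_sum, Finset.sum_apply, LinearMap.smul_apply, LinearMap.zero_apply] at h0
      have h1 := congrArg ((m : A) • ·) h0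
      simp only [smul_zero, Finset.smul_sum] at h1
      refine Eq.trans (Finset.sum_congr rfl fun i _ => ?_) h1
      change (c i * χ i m) • ((i.out : A) • v) = (m : A) • (c i • ((i.out : A) • ((m : A)⁻¹ • v)))
      have h2 : (m : A) • (c i • ((i.out : A) • ((m : A)⁻¹ • v))) =
          c i • ((m : A) • ((i.out : A) • ((m : A)⁻¹ • v))) := by
        exact hcomm _ (socle_le Z _ m.2) (c i) _
      rw [h2, mul_smul]
      congr 1
      change ((form ι m i.out : Kˣ) : K) • ((i.out : A) • v) = _
      rw [form, hιv, ← mul_smul, ← mul_smul, ← mul_smul]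
      congr 1
      group
    by_contra hcq
    have hzero : ∀ v : V, c q • ((q.out : A) • v) = 0 := by
      intro v
      refine (Module.forall_dual_apply_eq_zero_iff K _).1 fun φ => ?_
      rw [map_smul, smul_eq_mul]
      have hind2 := (linearIndependent_monoidHom L K).comp χ hχ
      refine Fintype.linearIndependent_iff.1 hind2 (fun i => c i * φ ((i.out : A) • v)) ?_ q
      funext m
      have h3 := congrArg φ (hev m v)
      rw [map_sum, map_zero] at h3
      rw [Finset.sum_apply, Pi.zero_apply]
      refine Eq.trans (Finset.sum_congr rfl fun i _ => ?_) h3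
      rw [φ.map_smul, smul_eq_mul, Pi.smul_apply, Function.comp_apply, smul_eq_mul]
      ring
    obtain ⟨x, hx⟩ := exists_ne (0 : V)
    have h4 := hzero ((q.out : A)⁻¹ • x)
    rw [smul_inv_smul] at h4
    exact hx ((smul_eq_zero.1 h4).resolve_left hcq)
  have h := hind.fintype_card_le_finrank
  rw [Module.finrank_linearMap, ← Nat.card_eq_fintype_card, ← Subgroup.index_eq_card] at h
  exact h

end Field

/-- The semilinear case, with an abstract field. -/
theorem pair_semilinear {N : ℕ} (hb : Below.{u} N) (hA : Odd (Nat.card A)) (hN : Nat.card A ≤ N)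
    [Group.IsSolvable A] [Nontrivial V] [Z.Normal] {K : Type u} [Field K] [Finite K] [Module K V]
    (hmax : MaxAbelian Z) (hf : ∀ k ∈ alg A V Z, k ≠ 0 → ∃ l ∈ alg A V Z, k * l = 1)
    {ι : Z →* Kˣ} (hι : Function.Injective ι)
    (hιv : ∀ (z : Z) (v : V), ((ι z : Kˣ) : K) • v = (z : A) • v)
    (σ : A →* RingAut K) (hσ : σ.ker = Subgroup.centralizer (Z : Set A))
    (hsemi : ∀ (g : A) (k : K) (v : V), g • (k • v) = σ g k • (g • v)) : Pair A V := by
  classical
  set C := Subgroup.centralizer (Z : Set A) with hC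
  have hZC : Z ≤ C := le_centralizer_self Z
  have hcomm : ∀ g ∈ C, ∀ (k : K) (v : V), g • (k • v) = k • (g • v) := fun g hg k v => by
    rw [hsemi, show σ g = 1 from MonoidHom.mem_ker.1 (hσ ▸ hg)]
    rfl
  obtain ⟨p, hchar⟩ := CharP.exists K
  have hp : p.Prime := CharP.char_is_prime K p
  haveI : Fact p.Prime := ⟨hp⟩
  letI : Algebra (ZMod p) K := ZMod.algebra K p
  set Q := Nat.card K with hQ
  set d := Module.finrank (ZMod p) K with hd
  set e := Module.finrank K V with he
  have hQd : Q = p ^ d := by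
    rw [hQ, Module.natCard_eq_pow_finrank (K := ZMod p), Nat.card_zmod]
  have hd0 : d ≠ 0 := Module.finrank_pos.ne'
  have hV : Nat.card V = Q ^ e := Module.natCard_eq_pow_finrank
  have he0 : 0 < e := Module.finrank_pos
  have hQ2 : 2 ≤ Q := Finite.one_lt_card
  have hzQ : Nat.card Z ∣ Q - 1 := by
    rw [hQ, ← Nat.card_units]
    exact Subgroup.card_dvd_of_injective ι hι
  have hzle : Nat.card Z ≤ Q - 1 := Nat.le_of_dvd (by omega) hzQ
  set δ := C.index with hδ
  have hδd : δ ≤ d := by
    rw [hδ, ← hσ, Subgroup.index_ker, hd, ← IsGalois.card_aut_eq_finrank]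
    haveI : Finite (K ≃ₐ[ZMod p] K) := Finite.of_injective _ DFunLike.coe_injective
    refine Nat.card_le_card_of_injective (fun r : σ.range => AlgEquiv.ofRingEquiv (f := r.1)
      (fun x => RingHom.congr_fun
        (Subsingleton.elim (r.1.toRingHom.comp (algebraMap (ZMod p) K)) _) x)) ?_
    intro r r' h
    exact Subtype.ext (RingEquiv.ext fun k => AlgEquiv.congr_fun h k)
  have hδQ : 2 * δ ≤ Q := by
    rw [hQd]; exact (by omega : 2 * δ ≤ 2 * d).trans (two_mul_le_pow hp.two_le)
  have hcard : Nat.card A = δ * Nat.card C := by rw [mul_comm, hδ, C.card_mul_index]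
  have hfix1 : ∀ a ∈ Z, a ≠ 1 → Nat.card (fixS A V a) = 1 := fun a ha ha1 => card_fix_one hf ha ha1
  by_cases hne : C ≤ Z
  · -- the centraliser is `Z`
    have hCZ : C = Z := le_antisymm hne hZC
    rcases Nat.lt_or_ge e 2 with he2 | he2
    · have he1 : e = 1 := by omega
      obtain ⟨v, hv⟩ := exists_ne (0 : V)
      obtain ⟨k, hk⟩ := IsCyclic.exists_generator (α := Kˣ)
      refine ⟨v, (k : K) • v, fun a h1 h2 x => ?_⟩
      rw [hsemi, h1] at h2
      have h3 : σ a (k : K) = k := smul_left_injective K hv h2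
      obtain ⟨c, rfl⟩ := (finrank_eq_one_iff_of_nonzero' v hv).1 he1 x
      rw [hsemi, h1]
      congr 1
      by_cases hc : c = 0
      · rw [hc, map_zero]
      · obtain ⟨j, hj⟩ := Subgroup.mem_zpowers_iff.1 (hk (Units.mk0 c hc))
        have h4 : Units.map ((σ a : K ≃+* K).toMonoidHom) k = k := Units.ext h3
        have h5 := congrArg (Units.map ((σ a : K ≃+* K).toMonoidHom)) hj
        rw [map_zpow, h4, hj] at h5
        exact congrArg Units.val h5.symm
    · refine pair_of_count fun a ha => ?_
      rw [card_fixS]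
      have h1 : Nat.card (fixS A V a) ^ 2 ≤ Nat.card V := by
        by_cases haZ : a ∈ Z
        · rw [hfix1 a haZ ha, one_pow]; exact Nat.card_pos
        · exact fix_outside hf (fun h => haZ (hne h))
      have h2 : Nat.card A ≤ Nat.card V := by
        rw [hcard, hCZ, hV]
        calc δ * Nat.card Z ≤ Q * Q := Nat.mul_le_mul (by omega) (by omega)
          _ = Q ^ 2 := (pow_two Q).symm
          _ ≤ Q ^ e := Nat.pow_le_pow_right (by omega) he2
      calc _ ≤ Nat.card V * Nat.card V := Nat.mul_le_mul h1 h2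
        _ = _ := (pow_two _).symm
  · -- the centraliser is larger
    obtain ⟨r, hr⟩ := socle_index_square hι hmax hne
    obtain ⟨hr3, hrodd, hY, hY3, hY5, hY7, hY9⟩ := socle_bounds hb hA hN hι hmax hne hr
    set L := socle Z C with hL
    set Y := L.relIndex C with hYdef
    have hLC : L ≤ C := socle_le Z C
    have hZL : Z < L := exists_socle hne
    have hCcard : Nat.card C = Nat.card Z * (r * r) * Y := by
      rw [← Subgroup.relIndex_bot_left C, ← Subgroup.relIndex_mul_relIndex ⊥ L C bot_le hLC,
        ← Subgroup.relIndex_mul_relIndex ⊥ Z L bot_le hZL.le, Subgroup.relIndex_bot_left, hr]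
    have hre : r ≤ e := Nat.mul_self_le_mul_self_iff.1
      (hr ▸ le_finrank hcomm hι hιv hmax hne)
    have hVr : Q ^ r ≤ Nat.card V := hV ▸ Nat.pow_le_pow_right (by omega) hre
    have hcube : ∀ g ∈ L, g ∉ Z → Nat.card (fixS A V g) ^ 3 ≤ Nat.card V := by
      intro g hg hgZ
      obtain ⟨n, hn, hng⟩ : ∃ n ∈ L, n * g ≠ g * n := by
        by_contra hc
        push Not at hc
        exact hgZ ((socle_center hmax hne) ▸ ⟨hg, Subgroup.mem_centralizer_iff.2 hc⟩)
      refine fix_cube_le hf hA g n (g * n * g⁻¹ * n⁻¹) (hLC hg) (hLC hn)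
        (socle_comm (Subgroup.commutator_mem_commutator hg hn)) (fun h1 => ?_) (by group)
      rw [mul_inv_eq_one, mul_inv_eq_iff_eq_mul] at h1
      exact hng h1.symm
    have hprime : ∀ s, s.Prime → s ∣ r → s ∣ Nat.card Z := fun s hs hsr =>
      prime_dvd_card hι hmax hne s hs (hr ▸ hsr.mul_right r)
    by_cases hY1 : Y = 1
    · refine pair_of_count fun a ha => ?_
      rw [card_fixS]
      have hCL : C ≤ L := Subgroup.relIndex_eq_one.1 hY1
      have h1 : Nat.card (fixS A V a) ^ 2 ≤ Nat.card V := by
        by_cases haC : a ∈ C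
        · by_cases haZ : a ∈ Z
          · rw [hfix1 a haZ ha, one_pow]; exact Nat.card_pos
          · exact le_trans (Nat.pow_le_pow_right Nat.card_pos (by norm_num))
              (hcube a (hCL haC) haZ)
        · exact fix_outside hf haC
      obtain ⟨s, hs, hsr⟩ := Nat.exists_prime_and_dvd (n := r) (by omega)
      have hz3 : 3 ≤ Nat.card Z := by
        have h2 := Nat.le_of_dvd Nat.card_pos (hprime s hs hsr)
        have h3 : 2 < s := by
          rcases hs.eq_two_or_odd' with h | h
          · exact absurd (even_iff_two_dvd.2 (h ▸ hsr)) (Nat.not_even_iff_odd.2 hrodd)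
          · obtain ⟨k, hk⟩ := h; have := hs.two_le; omega
        omega
      have h2 : Nat.card A ≤ Nat.card V := by
        rw [hcard, hCcard, hY1, mul_one, ← mul_assoc]
        exact (bound_small (by omega) hδQ hzle hr3).trans hVr
      calc _ ≤ Nat.card V * Nat.card V := Nat.mul_le_mul h1 h2
        _ = _ := (pow_two _).symm
    · have hr5 : 5 ≤ r := by
        have : r ≠ 3 := fun h => hY1 (hY3 h)
        obtain ⟨j, hj⟩ := hrodd
        omega
      have hA3 : Nat.card A ^ 3 ≤ Nat.card V ^ 2 := by
        have h1 : Nat.card A = δ * Nat.card Z * (r * r) * Y := by rw [hcard, hCcard]; ring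
        rw [h1]
        refine (bound_big hp hQd hd0 hδd hzQ (hA.of_dvd_nat Z.card_subgroup_dvd_card) hrodd hr5
          hprime hY5 hY7 hY9 hY).trans ?_
        rw [mul_comm 2 r, pow_mul]
        exact Nat.pow_le_pow_left hVr 2
      refine pair_of_count fun a ha => ?_
      rw [card_fixS]
      set F := Nat.card (fixS A V a)
      have hV1 : 1 ≤ Nat.card V := Nat.card_pos
      have h6 : F ^ 6 ≤ Nat.card V ^ 4 := by
        by_cases haC : a ∈ C
        · by_cases haZ : a ∈ Z
          · change Nat.card (fixS A V a) ^ 6 ≤ _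
            rw [hfix1 a haZ ha, one_pow]
            exact Nat.one_le_pow _ _ hV1
          by_cases haL : a ∈ L
          · calc F ^ 6 = (F ^ 3) ^ 2 := by ring
              _ ≤ Nat.card V ^ 2 := Nat.pow_le_pow_left (hcube a haL haZ) 2
              _ ≤ Nat.card V ^ 4 := Nat.pow_le_pow_right hV1 (by norm_num)
          · obtain ⟨l, hl, hlZ⟩ : ∃ l ∈ L, a * l * a⁻¹ * l⁻¹ ∉ Z := by
              by_contra hc
              push Not at hc
              exact haL (mem_socle hι hmax hne haC hc)
            have hhL : a * l * a⁻¹ * l⁻¹ ∈ L :=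
              mul_mem ((socle_normal Z C).conj_mem l hl a) (inv_mem hl)
            calc F ^ 6 = (F ^ 2) ^ 3 := by ring
              _ ≤ (Nat.card V * Nat.card (fixS A V (a * l * a⁻¹ * l⁻¹))) ^ 3 :=
                Nat.pow_le_pow_left (fix_commutator_le a l) 3
              _ ≤ Nat.card V ^ 3 * Nat.card V := by
                rw [mul_pow]; exact Nat.mul_le_mul_left _ (hcube _ hhL hlZ)
              _ = Nat.card V ^ 4 := by ring
        · calc F ^ 6 = (F ^ 2) ^ 3 := by ring
            _ ≤ Nat.card V ^ 3 := Nat.pow_le_pow_left (fix_outside hf haC) 3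
            _ ≤ Nat.card V ^ 4 := Nat.pow_le_pow_right hV1 (by norm_num)
      refine (Nat.pow_le_pow_iff_left (n := 3) (by norm_num)).1 ?_
      calc (F ^ 2 * Nat.card A) ^ 3 = F ^ 6 * Nat.card A ^ 3 := by ring
        _ ≤ Nat.card V ^ 4 * Nat.card V ^ 2 := Nat.mul_le_mul h6 hA3
        _ = (Nat.card V ^ 2) ^ 3 := by ring

/-- The primitive case. -/
theorem pair_primitive {N : ℕ} (hb : Below.{u} N) (hA : Odd (Nat.card A)) (hN : Nat.card A ≤ N)
    [Group.IsSolvable A] [Nontrivial V] (hirr : Irr A V) [Z.Normal] (hmax : MaxAbelian Z)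
    (hidem : ∀ e ∈ alg A V Z, e * e = e → e = 0 ∨ e = 1) : Pair A V := by
  have hf := alg_field hirr hidem
  haveI : Finite (alg A V Z) := alg_finite
  have hinv : ∀ g : A, act A V g⁻¹ * act A V g = 1 := fun g => by
    rw [← map_mul, inv_mul_cancel, map_one]
  have hinv' : ∀ g : A, act A V g * act A V g⁻¹ = 1 := fun g => by
    rw [← map_mul, mul_inv_cancel, map_one]
  let cj : A → alg A V Z →+* alg A V Z := fun g =>
    { toFun := fun k => ⟨act A V g * k * act A V g⁻¹, alg_conj g k.2⟩
      map_one' := Subtype.ext (by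
        change act A V g * 1 * act A V g⁻¹ = 1
        rw [mul_one, hinv'])
      map_mul' := fun a b => Subtype.ext (by
        simp only [Subring.coe_mul]
        simp only [mul_assoc]
        rw [← mul_assoc (act A V g⁻¹) (act A V g), hinv, one_mul])
      map_zero' := Subtype.ext (by
        change act A V g * 0 * act A V g⁻¹ = 0
        rw [mul_zero, zero_mul])
      map_add' := fun a b => Subtype.ext (by
        change act A V g * ((a : AddMonoid.End V) + b) * act A V g⁻¹ =
          act A V g * a * act A V g⁻¹ + act A V g * b * act A V g⁻¹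
        rw [mul_add, add_mul]) }
  have hcj1 : ∀ k, cj 1 k = k := fun k => Subtype.ext (by
    change act A V 1 * (k : AddMonoid.End V) * act A V 1⁻¹ = k
    rw [inv_one, map_one, one_mul, mul_one])
  have hcjmul : ∀ g g' k, cj (g * g') k = cj g (cj g' k) := fun g g' k => Subtype.ext (by
    change act A V (g * g') * k * act A V (g * g')⁻¹ =
      act A V g * (act A V g' * k * act A V g'⁻¹) * act A V g⁻¹
    rw [mul_inv_rev, map_mul, map_mul]
    simp only [mul_assoc])
  let σ : A →* RingAut (alg A V Z) := MonoidHom.mk'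
    (fun g => RingEquiv.ofRingHom (cj g) (cj g⁻¹)
      (RingHom.ext fun k => by rw [RingHom.comp_apply, ← hcjmul, mul_inv_cancel, hcj1]; rfl)
      (RingHom.ext fun k => by rw [RingHom.comp_apply, ← hcjmul, inv_mul_cancel, hcj1]; rfl))
    (fun g g' => RingEquiv.ext fun k => hcjmul g g' k)
  have hσ : σ.ker = Subgroup.centralizer (Z : Set A) := by
    ext g
    rw [MonoidHom.mem_ker, Subgroup.mem_centralizer_iff]
    constructor
    · intro h z hz
      have h1 : act A V g * act A V z * act A V g⁻¹ = act A V z :=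
        congrArg Subtype.val (RingEquiv.congr_fun h ⟨act A V z, mem_alg hz⟩)
      rw [← map_mul, ← map_mul] at h1
      have h2 : g * z * g⁻¹ = z := eq_of_smul_eq_smul fun v : V => DFunLike.congr_fun h1 v
      rw [mul_inv_eq_iff_eq_mul] at h2
      exact h2.symm
    · intro h
      refine RingEquiv.ext fun k => Subtype.ext ?_
      change act A V g * k * act A V g⁻¹ = k
      rw [commute_alg (Subgroup.mem_centralizer_iff.2 h) k.2, mul_assoc, hinv', mul_one]
  let ι : Z →* (alg A V Z)ˣ := MonoidHom.toHomUnits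
    { toFun := fun z : Z => ⟨act A V (z : A), mem_alg z.2⟩
      map_one' := Subtype.ext (map_one (act A V))
      map_mul' := fun x y => Subtype.ext (map_mul (act A V) (x : A) (y : A)) }
  have hι : Function.Injective ι := by
    intro x y h
    have h1 : act A V (x : A) = act A V (y : A) := congrArg (fun t : (alg A V Z)ˣ => ((t : alg A V Z) : AddMonoid.End V)) h
    exact Subtype.ext (eq_of_smul_eq_smul fun v : V => DFunLike.congr_fun h1 v)
  letI mV : Module (alg A V Z) V := Module.compHom V (alg A V Z).subtype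
  refine @pair_semilinear A V _ _ _ _ _ _ Z _ N hb hA hN _ _ _ (alg A V Z) (algField hf) _ mV
    hmax hf ι hι (fun _ _ => rfl) σ hσ fun g k v => ?_
  change g • ((k : AddMonoid.End V) v) = g • ((k : AddMonoid.End V) (g⁻¹ • (g • v)))
  rw [inv_smul_smul]

end Cfsg.Lib.OddBase
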