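import Cfsg.Agent.OddBase.Socle

/-!
The commutator pairing on the socle over a maximal abelian normal subgroup.
-/

set_option autoImplicit false
set_option linter.unusedSectionVars false

namespace Cfsg.Lib.OddBase

open Subgroup

universe u

variable {A : Type u} [Group A] [Finite A] [Group.IsSolvable A] {Z : Subgroup A} [Z.Normal]
  [IsMulCommutative Z] {K : Type u} [Field K]

/-- Hypotheses: `Z` is maximal abelian normal. -/
def MaxAbelian (Z : Subgroup A) : Prop :=
  ∀ N : Subgroup A, N.Normal → IsMulCommutative N → Z ≤ N → N = Z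

theorem le_centralizer_self (Z : Subgroup A) [IsMulCommutative Z] :
    Z ≤ Subgroup.centralizer (Z : Set A) := fun x hx => Subgroup.mem_centralizer_iff.2 fun y hy =>
  congrArg Subtype.val (IsMulCommutative.is_comm.comm (⟨y, hy⟩ : Z) ⟨x, hx⟩)

theorem socle_central {x z : A} (hx : x ∈ socle Z (Subgroup.centralizer (Z : Set A))) (hz : z ∈ Z) :
    z * x = x * z :=
  Subgroup.mem_centralizer_iff.1 (socle_le Z _ hx) z hz

theorem exists_socle (hne : ¬ Subgroup.centralizer (Z : Set A) ≤ Z) :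
    Z < socle Z (Subgroup.centralizer (Z : Set A)) := by
  obtain ⟨M, hM, -⟩ := exists_layer_le (Z := Z) (C := Subgroup.centralizer (Z : Set A)) _
    inferInstance (lt_of_le_of_ne (le_centralizer_self Z) fun h => hne h.ge) le_rfl
  exact lt_of_lt_of_le hM.2.1 (layer_le_socle hM)

/-- The centre of the socle is `Z`. -/
theorem socle_center (hmax : MaxAbelian Z) (hne : ¬ Subgroup.centralizer (Z : Set A) ≤ Z) :
    socle Z (Subgroup.centralizer (Z : Set A)) ⊓
      Subgroup.centralizer (socle Z (Subgroup.centralizer (Z : Set A)) : Set A) = Z := by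
  refine hmax _ inferInstance ⟨⟨fun x y => Subtype.ext ?_⟩⟩ (le_inf (exists_socle hne).le fun z hz =>
    Subgroup.mem_centralizer_iff.2 fun x hx => (socle_central hx hz).symm)
  exact (Subgroup.mem_centralizer_iff.1 x.2.2 y y.2.1).symm

theorem centralizer_socle (hmax : MaxAbelian Z) (hne : ¬ Subgroup.centralizer (Z : Set A) ≤ Z)
    {x : A} (hxC : x ∈ Subgroup.centralizer (Z : Set A))
    (hx : x ∈ Subgroup.centralizer (socle Z (Subgroup.centralizer (Z : Set A)) : Set A)) : x ∈ Z := by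
  set C := Subgroup.centralizer (Z : Set A)
  set L := socle Z C
  set R := C ⊓ Subgroup.centralizer (L : Set A)
  by_contra hxZ
  have hZR : Z < R := lt_of_le_of_ne (le_inf (le_centralizer_self Z) fun z hz =>
    Subgroup.mem_centralizer_iff.2 fun y hy => (socle_central hy hz).symm)
    fun h => hxZ (h.symm ▸ (show x ∈ R from ⟨hxC, hx⟩))
  obtain ⟨M, hM, hMR⟩ := exists_layer_le (Z := Z) (C := C) R inferInstance hZR inf_le_left
  exact not_le_of_gt hM.2.1
    ((socle_center hmax hne) ▸ le_inf (layer_le_socle hM) (hMR.trans inf_le_right))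

variable (ι : Z →* Kˣ)

/-- The commutator form. -/
noncomputable def form (l m : socle Z (Subgroup.centralizer (Z : Set A))) : Kˣ :=
  ι ⟨(l : A) * m * (l : A)⁻¹ * (m : A)⁻¹, socle_comm (Subgroup.commutator_mem_commutator l.2 m.2)⟩

theorem form_mul_right (l m m' : socle Z (Subgroup.centralizer (Z : Set A))) :
    form ι l (m * m') = form ι l m * form ι l m' := by
  rw [form, form, form, ← map_mul]
  congr 1
  apply Subtype.ext
  have h : (l : A) * m' * (l : A)⁻¹ * (m' : A)⁻¹ ∈ Z :=
    socle_comm (Subgroup.commutator_mem_commutator l.2 m'.2)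
  have hc := socle_central m.2 h
  simp only [Subgroup.coe_mul, mul_inv_rev]
  calc (l : A) * (m * m') * (l : A)⁻¹ * ((m' : A)⁻¹ * (m : A)⁻¹)
      = ((l : A) * m * (l : A)⁻¹) * ((l : A) * m' * (l : A)⁻¹ * (m' : A)⁻¹) * (m : A)⁻¹ := by group
    _ = ((l : A) * m * (l : A)⁻¹) * ((m : A)⁻¹ * (m * ((l : A) * m' * (l : A)⁻¹ * (m' : A)⁻¹))) * (m : A)⁻¹ := by group
    _ = ((l : A) * m * (l : A)⁻¹) * ((m : A)⁻¹ * (((l : A) * m' * (l : A)⁻¹ * (m' : A)⁻¹) * m)) * (m : A)⁻¹ := by rw [hc]
    _ = _ := by group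

theorem form_mul_left (l l' m : socle Z (Subgroup.centralizer (Z : Set A))) :
    form ι (l * l') m = form ι l m * form ι l' m := by
  rw [form, form, form, ← map_mul]
  congr 1
  apply Subtype.ext
  have h : (l' : A) * m * (l' : A)⁻¹ * (m : A)⁻¹ ∈ Z :=
    socle_comm (Subgroup.commutator_mem_commutator l'.2 m.2)
  have hc := socle_central l.2 h
  have h' : (l : A) * m * (l : A)⁻¹ * (m : A)⁻¹ ∈ Z :=
    socle_comm (Subgroup.commutator_mem_commutator l.2 m.2)
  have hcomm : ((l' : A) * m * (l' : A)⁻¹ * (m : A)⁻¹) * ((l : A) * m * (l : A)⁻¹ * (m : A)⁻¹) =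
      ((l : A) * m * (l : A)⁻¹ * (m : A)⁻¹) * ((l' : A) * m * (l' : A)⁻¹ * (m : A)⁻¹) :=
    congrArg Subtype.val (IsMulCommutative.is_comm.comm (⟨_, h⟩ : Z) ⟨_, h'⟩)
  simp only [Subgroup.coe_mul, mul_inv_rev]
  rw [← hcomm]
  calc (l : A) * l' * m * ((l' : A)⁻¹ * (l : A)⁻¹) * (m : A)⁻¹
      = ((l : A) * ((l' : A) * m * (l' : A)⁻¹ * (m : A)⁻¹)) * (m * (l : A)⁻¹ * (m : A)⁻¹) := by group
    _ = (((l' : A) * m * (l' : A)⁻¹ * (m : A)⁻¹) * l) * (m * (l : A)⁻¹ * (m : A)⁻¹) := by rw [hc]
    _ = _ := by group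

/-- The form as a homomorphism to characters. -/
noncomputable def formHom : socle Z (Subgroup.centralizer (Z : Set A)) →*
    (socle Z (Subgroup.centralizer (Z : Set A)) →* Kˣ) where
  toFun l := MonoidHom.mk' (form ι l) (form_mul_right ι l)
  map_one' := by
    ext m
    simp [form, show ∀ h : (1 : A) ∈ Z, (⟨1, h⟩ : Z) = 1 from fun _ => rfl]
  map_mul' l l' := by ext m; exact congrArg Units.val (form_mul_left ι l l' m)

theorem form_eq_one {ι : Z →* Kˣ} (hι : Function.Injective ι)
    (l m : socle Z (Subgroup.centralizer (Z : Set A))) :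
    form ι l m = 1 ↔ (l : A) * m = m * l := by
  rw [form, map_eq_one_iff ι hι, Subtype.ext_iff, Subgroup.coe_one]
  constructor <;> intro h
  · rw [mul_inv_eq_one, mul_inv_eq_iff_eq_mul] at h; exact h
  · rw [mul_inv_eq_one, mul_inv_eq_iff_eq_mul]; exact h

/-- The pairing bound between two subgroups of the socle. -/
theorem pair_bound {ι : Z →* Kˣ} (hι : Function.Injective ι) (P R : Subgroup A)
    (hP : P ≤ socle Z (Subgroup.centralizer (Z : Set A)))
    (hR : R ≤ socle Z (Subgroup.centralizer (Z : Set A))) :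
    (Subgroup.centralizer (R : Set A)).relIndex P ≤ (Subgroup.centralizer (P : Set A)).relIndex R := by
  classical
  let f : P →* (R →* Kˣ) :=
    ((MonoidHom.compHom' (Subgroup.inclusion hR)).comp (formHom ι)).comp (Subgroup.inclusion hP)
  let g : R →* (P →* Kˣ) :=
    ((MonoidHom.compHom' (Subgroup.inclusion hP)).comp (formHom ι)).comp (Subgroup.inclusion hR)
  have hfk : f.ker = (Subgroup.centralizer (R : Set A)).subgroupOf P := by
    ext x
    rw [MonoidHom.mem_ker, Subgroup.mem_subgroupOf, Subgroup.mem_centralizer_iff]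
    constructor
    · intro h r hr
      exact ((form_eq_one hι _ _).1 (DFunLike.congr_fun h ⟨r, hr⟩)).symm
    · intro h
      ext1 r
      exact (form_eq_one hι _ _).2 (h r r.2).symm
  have hgk : g.ker = (Subgroup.centralizer (P : Set A)).subgroupOf R := by
    ext x
    rw [MonoidHom.mem_ker, Subgroup.mem_subgroupOf, Subgroup.mem_centralizer_iff]
    constructor
    · intro h r hr
      exact ((form_eq_one hι _ _).1 (DFunLike.congr_fun h ⟨r, hr⟩)).symm
    · intro h
      ext1 r
      exact (form_eq_one hι _ _).2 (h r r.2).symm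
  have hfac : ∀ (p : P) (r : R), g r = 1 → f p r = 1 := by
    intro p r hr
    exact (form_eq_one hι _ _).2 ((form_eq_one hι _ _).1 (DFunLike.congr_fun hr p)).symm
  unfold Subgroup.relIndex
  rw [← hfk, ← hgk, Subgroup.index_ker]
  let F : f.range → (R ⧸ g.ker →* Kˣ) := fun φ => QuotientGroup.lift g.ker φ.1 (by
    obtain ⟨φ, p, rfl⟩ := φ
    exact fun r hr => hfac p r hr)
  refine (Nat.card_le_card_of_injective F ?_).trans ?_
  · intro φ ψ h
    apply Subtype.ext
    ext1 r
    exact DFunLike.congr_fun h (QuotientGroup.mk r)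
  · exact card_hom_le.trans (le_of_eq g.ker.index_eq_card.symm)

/-- The index of `Z` in the socle is a square. -/
theorem socle_index_square {ι : Z →* Kˣ} (hι : Function.Injective ι) (hmax : MaxAbelian Z)
    (hne : ¬ Subgroup.centralizer (Z : Set A) ≤ Z) :
    ∃ r : ℕ, Z.relIndex (socle Z (Subgroup.centralizer (Z : Set A))) = r * r := by
  classical
  set L := socle Z (Subgroup.centralizer (Z : Set A)) with hL
  let P : Subgroup A → Prop := fun B => Z ≤ B ∧ B ≤ L ∧ ∀ x ∈ B, ∀ y ∈ B, x * y = y * x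
  have hZL : Z ≤ L := (exists_socle hne).le
  obtain ⟨B, ⟨hZB, hBL, hBc⟩, hBmax⟩ : ∃ B, P B ∧ ∀ B', P B' → B ≤ B' → B' = B := by
    haveI := Fintype.ofFinite (Subgroup A)
    obtain ⟨B, hB, hBmax⟩ := (Finset.univ.filter P).exists_max_image (fun B => Nat.card B)
      ⟨Z, Finset.mem_filter.2 ⟨Finset.mem_univ _, le_rfl, hZL, fun x hx y hy =>
        congrArg Subtype.val (IsMulCommutative.is_comm.comm (⟨x, hx⟩ : Z) ⟨y, hy⟩)⟩⟩
    refine ⟨B, (Finset.mem_filter.1 hB).2, fun B' hB' hle => ?_⟩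
    exact (Subgroup.eq_of_le_of_card_ge hle (hBmax B' (by simp [hB']))).symm
  have hselfB : Subgroup.centralizer (B : Set A) ⊓ L = B := by
    refine le_antisymm (fun x hx => ?_) (le_inf (fun b hb => Subgroup.mem_centralizer_iff.2
      fun c hc => hBc c hc b hb) hBL)
    have hsub : B ⊔ Subgroup.zpowers x ≤ L := sup_le hBL (Subgroup.zpowers_le.2 hx.2)
    have hcom : ∀ a ∈ B ⊔ Subgroup.zpowers x, ∀ b ∈ B ⊔ Subgroup.zpowers x, a * b = b * a := by
      have h1 : B ⊔ Subgroup.zpowers x ≤ Subgroup.centralizer ((B ⊔ Subgroup.zpowers x : Subgroup A) : Set A) := by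
        have hBB : B ≤ Subgroup.centralizer (B : Set A) := fun b hb =>
          Subgroup.mem_centralizer_iff.2 fun c hc => hBc c hc b hb
        have hxB : Subgroup.zpowers x ≤ Subgroup.centralizer (B : Set A) := Subgroup.zpowers_le.2 hx.1
        have hBx : B ≤ Subgroup.centralizer (Subgroup.zpowers x : Set A) :=
          Subgroup.le_centralizer_iff.1 hxB
        have hxx : Subgroup.zpowers x ≤ Subgroup.centralizer (Subgroup.zpowers x : Set A) :=
          Subgroup.zpowers_le.2 (Subgroup.mem_centralizer_iff.2 fun y hy => by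
            obtain ⟨k, rfl⟩ := Subgroup.mem_zpowers_iff.1 hy
            exact (Commute.refl x).zpow_left k)
        refine Subgroup.le_centralizer_iff.1 (sup_le ?_ ?_)
        · exact Subgroup.le_centralizer_iff.1 (sup_le hBB hxB)
        · exact Subgroup.le_centralizer_iff.1 (sup_le hBx hxx)
      intro a ha b hb
      exact (Subgroup.mem_centralizer_iff.1 (h1 ha) b hb).symm
    have := hBmax _ ⟨hZB.trans le_sup_left, hsub, hcom⟩ le_sup_left
    exact this ▸ Subgroup.mem_sup_right (Subgroup.mem_zpowers x)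
  have e1 : (Subgroup.centralizer (B : Set A)).relIndex L = B.relIndex L := by
    conv_rhs => rw [← hselfB, Subgroup.inf_relIndex_right]
  have e2 : (Subgroup.centralizer (L : Set A)).relIndex B = Z.relIndex B := by
    have hzc : Subgroup.centralizer (L : Set A) ⊓ B = Z := by
      refine le_antisymm (fun x hx => (socle_center hmax hne) ▸ ⟨hBL hx.2, hx.1⟩) (le_inf (fun z hz =>
        Subgroup.mem_centralizer_iff.2 fun x hx => (socle_central hx hz).symm) hZB)
    conv_rhs => rw [← hzc, Subgroup.inf_relIndex_right]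
  have h1 := pair_bound hι L B le_rfl hBL
  have h2 := pair_bound hι B L hBL le_rfl
  rw [e1, e2] at h1
  rw [e1, e2] at h2
  refine ⟨Z.relIndex B, ?_⟩
  rw [← Subgroup.relIndex_mul_relIndex Z B L hZB hBL, le_antisymm h1 h2]

/-- An element inducing the identity on the socle modulo `Z` lies in the socle. -/
theorem mem_socle {ι : Z →* Kˣ} (hι : Function.Injective ι) (hmax : MaxAbelian Z)
    (hne : ¬ Subgroup.centralizer (Z : Set A) ≤ Z) {x : A} (hxC : x ∈ Subgroup.centralizer (Z : Set A))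
    (hx : ∀ l ∈ socle Z (Subgroup.centralizer (Z : Set A)), x * l * x⁻¹ * l⁻¹ ∈ Z) :
    x ∈ socle Z (Subgroup.centralizer (Z : Set A)) := by
  classical
  set L := socle Z (Subgroup.centralizer (Z : Set A)) with hL
  let ξ : L →* Kˣ := MonoidHom.mk' (fun l => ι ⟨_, hx l l.2⟩) fun l l' => by
    rw [← map_mul]
    congr 1
    apply Subtype.ext
    have hc := socle_central l.2 (hx l' l'.2)
    simp only [Subgroup.coe_mul, mul_inv_rev]
    calc x * ((l : A) * l') * x⁻¹ * ((l' : A)⁻¹ * (l : A)⁻¹)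
        = (x * l * x⁻¹) * (x * l' * x⁻¹ * (l' : A)⁻¹) * (l : A)⁻¹ := by group
      _ = (x * l * x⁻¹) * ((l : A)⁻¹ * (l * (x * l' * x⁻¹ * (l' : A)⁻¹))) * (l : A)⁻¹ := by group
      _ = (x * l * x⁻¹) * ((l : A)⁻¹ * ((x * l' * x⁻¹ * (l' : A)⁻¹) * l)) * (l : A)⁻¹ := by rw [hc]
      _ = _ := by group
  let χ : L →* (L →* Kˣ) := formHom ι
  have hχk : χ.ker = Z.subgroupOf L := by
    ext l
    rw [MonoidHom.mem_ker, Subgroup.mem_subgroupOf]
    constructor
    · intro h
      refine (socle_center hmax hne) ▸ ⟨l.2, Subgroup.mem_centralizer_iff.2 fun m hm => ?_⟩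
      exact ((form_eq_one hι l ⟨m, hm⟩).1 (DFunLike.congr_fun h ⟨m, hm⟩)).symm
    · intro h
      ext1 m
      exact (form_eq_one hι l m).2 (socle_central m.2 h)
  haveI : (Z.subgroupOf L).Normal := Subgroup.Normal.subgroupOf inferInstance L
  have hkill : ∀ (φ : L →* Kˣ), (φ ∈ χ.range ∨ φ = ξ) → Z.subgroupOf L ≤ φ.ker := by
    rintro φ (⟨l, rfl⟩ | rfl) z hz
    · exact (form_eq_one hι l z).2 (socle_central l.2 hz).symm
    · change ι _ = 1
      rw [map_eq_one_iff ι hι]
      apply Subtype.ext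
      change x * (z : A) * x⁻¹ * (z : A)⁻¹ = 1
      rw [← Subgroup.mem_centralizer_iff.1 hxC z hz, mul_inv_cancel_right, mul_inv_cancel]
  let T := {φ : L →* Kˣ // φ ∈ χ.range ∨ φ = ξ}
  let F : T → (L ⧸ Z.subgroupOf L →* Kˣ) := fun φ => QuotientGroup.lift _ φ.1 (hkill φ.1 φ.2)
  have hF : Function.Injective F := by
    intro φ ψ h
    apply Subtype.ext
    ext1 l
    exact DFunLike.congr_fun h (QuotientGroup.mk l)
  haveI : Finite (L ⧸ Z.subgroupOf L →* Kˣ) := by
    haveI : Finite (L ⧸ Z.subgroupOf L →* K) := (linearIndependent_monoidHom _ K).finite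
    refine Finite.of_injective (fun f => (Units.coeHom K).comp f) fun f g h => ?_
    refine MonoidHom.ext fun y => Units.ext ?_
    exact DFunLike.congr_fun h y
  haveI : Finite T := Finite.of_injective F hF
  have hT : Nat.card T ≤ Nat.card χ.range := by
    refine (Nat.card_le_card_of_injective F hF).trans ?_
    rw [← Subgroup.index_ker, hχk, Subgroup.index_eq_card]
    exact card_hom_le
  have hmem : ξ ∈ χ.range := by
    by_contra hc
    have : Nat.card χ.range + 1 ≤ Nat.card T := by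
      rw [← Nat.card_unique (α := PUnit.{1}), ← Nat.card_sum]
      refine Nat.card_le_card_of_injective
        (Sum.elim (fun φ => (⟨φ.1, Or.inl φ.2⟩ : T)) (fun _ => ⟨ξ, Or.inr rfl⟩)) ?_
      rintro (a | a) (b | b) h <;> simp only [Sum.elim_inl, Sum.elim_inr, T, Subtype.ext_iff] at h
      · exact congrArg _ (Subtype.ext h)
      · exact absurd (h ▸ a.2) hc
      · exact absurd (h ▸ b.2) hc
      · rfl
    omega
  obtain ⟨y, hy⟩ := hmem
  have hyx : (y : A)⁻¹ * x ∈ Subgroup.centralizer (L : Set A) := by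
    rw [Subgroup.mem_centralizer_iff]
    intro l hl
    have h1 := congrArg Subtype.val (hι (DFunLike.congr_fun hy ⟨l, hl⟩))
    simp only at h1
    have h2 : (y : A) * l * (y : A)⁻¹ = x * l * x⁻¹ := mul_right_cancel h1
    calc l * ((y : A)⁻¹ * x) = (y : A)⁻¹ * ((y : A) * l * (y : A)⁻¹) * x := by group
      _ = (y : A)⁻¹ * (x * l * x⁻¹) * x := by rw [h2]
      _ = (y : A)⁻¹ * x * l := by group
  have hz := centralizer_socle hmax hne
    (mul_mem (inv_mem (socle_le Z _ y.2)) hxC) hyx
  have : x = (y : A) * ((y : A)⁻¹ * x) := by group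
  rw [this]
  exact mul_mem y.2 ((exists_socle hne).le hz)

/-- Primes dividing the index of `Z` in the socle divide the order of `Z`. -/
theorem prime_dvd_card {ι : Z →* Kˣ} (hι : Function.Injective ι) (hmax : MaxAbelian Z)
    (hne : ¬ Subgroup.centralizer (Z : Set A) ≤ Z) (s : ℕ) (hs : s.Prime)
    (hdvd : s ∣ Z.relIndex (socle Z (Subgroup.centralizer (Z : Set A)))) : s ∣ Nat.card Z := by
  set L := socle Z (Subgroup.centralizer (Z : Set A)) with hL
  haveI : Fact s.Prime := ⟨hs⟩
  haveI : (Z.subgroupOf L).Normal := Subgroup.Normal.subgroupOf inferInstance L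
  obtain ⟨xq, hxq⟩ := exists_prime_orderOf_dvd_card' (G := L ⧸ Z.subgroupOf L) s
    (by rwa [← Subgroup.index_eq_card])
  obtain ⟨x, rfl⟩ := QuotientGroup.mk_surjective xq
  have hxs : ((x ^ s : L) : A) ∈ Z := by
    have := pow_orderOf_eq_one (x : L ⧸ Z.subgroupOf L)
    rw [hxq, ← QuotientGroup.mk_pow, QuotientGroup.eq_one_iff] at this
    exact this
  have hxZ : (x : A) ∉ Z := by
    intro h
    rw [(QuotientGroup.eq_one_iff x).2 h, orderOf_one] at hxq
    exact hs.ne_one hxq.symm
  obtain ⟨m, hm⟩ : ∃ m : L, form ι x m ≠ 1 := by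
    by_contra hc
    push Not at hc
    apply hxZ
    refine (socle_center hmax hne) ▸ ⟨x.2, Subgroup.mem_centralizer_iff.2 fun m hm => ?_⟩
    exact ((form_eq_one hι x ⟨m, hm⟩).1 (hc ⟨m, hm⟩)).symm
  let c : Z := ⟨(x : A) * m * (x : A)⁻¹ * (m : A)⁻¹,
    socle_comm (Subgroup.commutator_mem_commutator x.2 m.2)⟩
  have h1 : ι c ^ s = 1 := by
    have h2 : form ι (x ^ s) m = 1 := (form_eq_one hι _ _).2 (socle_central m.2 hxs)
    have h3 : (formHom ι (x ^ s)) m = 1 := h2
    rw [map_pow] at h3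
    exact h3
  rw [← map_pow, map_eq_one_iff ι hι] at h1
  have h4 : orderOf c = s := orderOf_eq_prime h1 fun h => hm (by
    change ι c = 1
    rw [h, map_one])
  exact h4 ▸ orderOf_dvd_natCard c

end Cfsg.Lib.OddBase
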