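import Cfsg.Agent.OddBase.Socle

/-!
The semilinear structure given by a field generated by an abelian normal subgroup.
-/

set_option autoImplicit false
set_option linter.unusedSectionVars false

namespace Cfsg.Lib.OddBase

universe u

variable {A V : Type u} [Group A] [Finite A] [AddCommGroup V] [Finite V] [DistribMulAction A V]
  {Z : Subgroup A}

theorem alg_finite : Finite (alg A V Z) :=
  haveI : Finite (AddMonoid.End V) :=
    Finite.of_injective (fun f : AddMonoid.End V => (f : V → V)) DFunLike.coe_injective
  Subtype.finite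

/-- Elements centralising `Z` commute with the algebra. -/
theorem commute_alg {g : A} (hg : g ∈ Subgroup.centralizer (Z : Set A)) {k : AddMonoid.End V}
    (hk : k ∈ alg A V Z) : act A V g * k = k * act A V g := by
  induction hk using Subring.closure_induction with
  | mem x hx =>
    obtain ⟨z, hz, rfl⟩ := hx
    rw [← map_mul, ← map_mul, Subgroup.mem_centralizer_iff.1 hg z hz]
  | zero => rw [mul_zero, zero_mul]
  | one => rw [mul_one, one_mul]
  | add x y _ _ hx hy => rw [mul_add, add_mul, hx, hy]
  | neg x _ hx => rw [mul_neg, neg_mul, hx]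
  | mul x y _ _ hx hy => rw [← mul_assoc, hx, mul_assoc, hy, ← mul_assoc]

theorem centralizer_smul {g : A} (hg : g ∈ Subgroup.centralizer (Z : Set A)) (k : alg A V Z) (v : V) :
    g • (k • v) = k • (g • v) :=
  DFunLike.congr_fun (commute_alg hg k.2) v

/-- The commutative field structure, when all non-zero elements have trivial `Q`-power. -/
noncomputable def algField [IsMulCommutative Z] [Nontrivial V]
    (h : ∀ k ∈ alg A V Z, k ≠ 0 → ∃ l ∈ alg A V Z, k * l = 1) : Field (alg A V Z) :=
  IsField.toField
    { exists_pair_ne := ⟨0, 1, fun h0 => by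
        obtain ⟨x, hx⟩ := exists_ne (0 : V)
        exact hx (by simpa using (DFunLike.congr_fun (congrArg Subtype.val h0) x).symm)⟩
      mul_comm := fun x y => Subtype.ext (alg_comm x.2 y.2)
      mul_inv_cancel := fun {k} hk => by
        obtain ⟨l, hl, hkl⟩ := h k k.2 (fun h0 => hk (Subtype.ext h0))
        exact ⟨⟨l, hl⟩, Subtype.ext hkl⟩ }

/-- Non-trivial elements of `Z` fix only zero. -/
theorem eq_zero_of_smul_eq [IsMulCommutative Z] [FaithfulSMul A V]
    (h : ∀ k ∈ alg A V Z, k ≠ 0 → ∃ l ∈ alg A V Z, k * l = 1)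
    {z : A} (hz : z ∈ Z) (hz1 : z ≠ 1) {y : V} (hy : z • y = y) : y = 0 := by
  have hmem : act A V z - 1 ∈ alg A V Z := sub_mem (mem_alg hz) (one_mem _)
  have hne : act A V z - 1 ≠ 0 := by
    intro h0
    rw [sub_eq_zero] at h0
    exact hz1 (eq_of_smul_eq_smul fun x : V => by
      rw [one_smul]; exact DFunLike.congr_fun h0 x)
  obtain ⟨l, hl, hkl⟩ := h _ hmem hne
  rw [alg_comm hmem hl] at hkl
  calc y = (1 : AddMonoid.End V) y := rfl
    _ = (l * (act A V z - 1)) y := by rw [hkl]
    _ = l (z • y - y) := rfl
    _ = 0 := by rw [hy, sub_self, map_zero]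

/-- The fixed subgroup of an element. -/
def fixS (A V : Type u) [Group A] [AddCommGroup V] [DistribMulAction A V] (g : A) : AddSubgroup V where
  carrier := {x | g • x = x}
  zero_mem' := smul_zero g
  add_mem' := fun {x y} hx hy => by
    change g • (x + y) = x + y
    rw [smul_add, hx, hy]
  neg_mem' := fun {x} hx => by
    change g • (-x) = -x
    rw [smul_neg, hx]

theorem card_fixS (g : A) : Nat.card (fixes (V := V) g) = Nat.card (fixS A V g) := rfl

/-- If the common part of the fixed spaces of `g` and its translate lies in that of `h`. -/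
theorem fix_sq_le (g n h : A)
    (hh : ∀ x : V, g • x = x → g • (n • x) = n • x → h • (n • x) = n • x) :
    Nat.card (fixS A V g) ^ 2 ≤ Nat.card V * Nat.card (fixS A V h) := by
  let φ : (fixS A V g × fixS A V g) →+ V :=
    { toFun := fun p => (p.1 : V) - n • (p.2 : V)
      map_zero' := by simp
      map_add' := fun p q => by
        simp only [Prod.fst_add, Prod.snd_add, AddSubgroup.coe_add, smul_add]
        abel }
  have h1 := φ.ker.card_mul_index
  have h2 : φ.ker.index ≤ Nat.card V := by
    rw [AddSubgroup.index_ker]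
    exact Nat.card_le_card_of_injective _ Subtype.val_injective
  have h3 : Nat.card φ.ker ≤ Nat.card (fixS A V h) := by
    have hmem : ∀ p : φ.ker, n • (p.1.2 : V) ∈ fixS A V h := by
      rintro ⟨⟨a, b⟩, hp⟩
      have hab : (a : V) = n • (b : V) := sub_eq_zero.1 hp
      refine hh _ b.2 ?_
      rw [← hab]; exact a.2
    refine Nat.card_le_card_of_injective (fun p => ⟨n • (p.1.2 : V), hmem p⟩) ?_
    rintro ⟨⟨a, b⟩, hp⟩ ⟨⟨a', b'⟩, hp'⟩ heq
    have hb : b = b' := Subtype.ext (MulAction.injective n (congrArg Subtype.val heq))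
    have hab : (a : V) = n • (b : V) := sub_eq_zero.1 hp
    have hab' : (a' : V) = n • (b' : V) := sub_eq_zero.1 hp'
    have ha : a = a' := Subtype.ext (by rw [hab, hab', hb])
    subst ha; subst hb; rfl
  rw [Nat.card_prod, ← pow_two] at h1
  rw [← h1, mul_comm (Nat.card V)]
  exact Nat.mul_le_mul h3 h2

/-- Three eigenspaces. -/
theorem fix_cube_le [IsMulCommutative Z] [FaithfulSMul A V]
    (hfield : ∀ k ∈ alg A V Z, k ≠ 0 → ∃ l ∈ alg A V Z, k * l = 1) (hA : Odd (Nat.card A))
    (g n w : A) (hg : g ∈ Subgroup.centralizer (Z : Set A))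
    (hn : n ∈ Subgroup.centralizer (Z : Set A)) (hw : w ∈ Z) (hw1 : w ≠ 1) (hgn : g * n = w * n * g) :
    Nat.card (fixS A V g) ^ 3 ≤ Nat.card V := by
  have hwn : w * n = n * w := (Subgroup.mem_centralizer_iff.1 hn w hw)
  have hgw : g * w = w * g := (Subgroup.mem_centralizer_iff.1 hg w hw).symm
  have e1 : ∀ x : V, g • x = x → g • (n • x) = w • (n • x) := by
    intro x hx
    rw [← mul_smul, hgn, mul_smul, hx, mul_smul]
  have e2 : ∀ x : V, g • x = x → g • (n • n • x) = w • w • (n • n • x) := by
    intro x hx
    rw [← mul_smul g n, hgn, mul_smul, mul_smul, e1 x hx, ← mul_smul n w, ← hwn, mul_smul]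
  have e3 : ∀ y : V, g • (w • y) = w • (g • y) := fun y => by rw [← mul_smul, hgw, mul_smul]
  have hinj : Function.Injective (fun p : fixS A V g × fixS A V g × fixS A V g =>
      (p.1 : V) + n • (p.2.1 : V) + n • n • (p.2.2 : V)) := by
    let φ : (fixS A V g × fixS A V g × fixS A V g) →+ V :=
      { toFun := fun p => (p.1 : V) + n • (p.2.1 : V) + n • n • (p.2.2 : V)
        map_zero' := by simp
        map_add' := fun p q => by
          simp only [Prod.fst_add, Prod.snd_add, AddSubgroup.coe_add, smul_add]
          abel }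
    refine (injective_iff_map_eq_zero φ).2 ?_
    rintro ⟨a, b, c⟩ h0
    change (a : V) + n • (b : V) + n • n • (c : V) = 0 at h0
    set B := n • (b : V) with hB
    set D := n • n • (c : V) with hD
    have h1 : (a : V) + w • B + w • w • D = 0 := by
      have := congrArg (g • ·) h0
      simp only [smul_add, smul_zero] at this
      rw [show g • (a : V) = a from a.2, e1 _ b.2, e2 _ c.2] at this
      exact this
    have h2 : (a : V) + w • w • B + w • w • w • w • D = 0 := by
      have := congrArg (g • ·) h1
      simp only [smul_add, smul_zero] at this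
      rw [show g • (a : V) = a from a.2, e3, e1 _ b.2, e3, e3, e2 _ c.2] at this
      exact this
    have hfix0 : ∀ z ∈ Z, z ≠ 1 → ∀ y : V, z • y = y → y = 0 := fun z hz hz1 y hy =>
      eq_zero_of_smul_eq hfield hz hz1 hy
    have hw2 : w * w ≠ 1 := by
      intro h
      exact hw1 (by simpa using smul_eq_of_sq (X := A) hA w (1 : A) (by simpa using h))
    have e4 : w • B - B + (w • w • D - D) = 0 := by
      calc w • B - B + (w • w • D - D) = ((a : V) + w • B + w • w • D) - ((a : V) + B + D) := by abel
        _ = 0 := by rw [h1, h0, sub_zero]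
    have e5 : w • (w • B - B) + w • w • (w • w • D - D) = 0 := by
      calc w • (w • B - B) + w • w • (w • w • D - D) =
            ((a : V) + w • w • B + w • w • w • w • D) - ((a : V) + w • B + w • w • D) := by
              simp only [smul_sub]; abel
        _ = 0 := by rw [h2, h1, sub_zero]
    have e6 : w • (w • B - B) + w • (w • w • D - D) = 0 := by rw [← smul_add, e4, smul_zero]
    have hD0 : D = 0 := by
      have e7 : w • (w • (w • w • D - D)) = w • (w • w • D - D) := by
        have := e5.trans e6.symm
        exact add_left_cancel this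
      have e8 := hfix0 w hw hw1 _ e7
      rw [smul_eq_zero_iff_eq, sub_eq_zero, ← mul_smul] at e8
      exact hfix0 _ (mul_mem hw hw) hw2 _ e8
    have hB0 : B = 0 := by
      rw [hD0, smul_zero, smul_zero, sub_zero, add_zero, sub_eq_zero] at e4
      exact hfix0 w hw hw1 _ e4
    have ha0 : (a : V) = 0 := by rw [hB0, hD0] at h0; simpa using h0
    rw [hB, smul_eq_zero_iff_eq] at hB0
    rw [hD, smul_eq_zero_iff_eq, smul_eq_zero_iff_eq] at hD0
    exact Prod.ext (Subtype.ext ha0) (Prod.ext (Subtype.ext hB0) (Subtype.ext hD0))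
  have := Nat.card_le_card_of_injective _ hinj
  rw [Nat.card_prod, Nat.card_prod] at this
  calc Nat.card (fixS A V g) ^ 3 = _ := by ring
    _ ≤ Nat.card V := this

end Cfsg.Lib.OddBase
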