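import Cfsg.Agent.OddBase.Basic

/-!
Small group lemmas: characters, the order of a general linear group, and groups without normal
subgroups of a given prime power order.
-/

set_option autoImplicit false

namespace Cfsg.Lib.OddBase

universe u v

/-- A finite group has at most as many characters as elements. -/
theorem card_hom_le {X : Type*} {K : Type*} [Group X] [Finite X] [Field K] :
    Nat.card (X →* Kˣ) ≤ Nat.card X := by
  classical
  haveI := Fintype.ofFinite X
  haveI : Finite (X →* K) :=
    (linearIndependent_monoidHom X K).finite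
  haveI := Fintype.ofFinite (X →* K)
  have h := (linearIndependent_monoidHom X K).fintype_card_le_finrank
  rw [Module.finrank_fintype_fun_eq_card] at h
  refine (Nat.card_le_card_of_injective (fun f : X →* Kˣ => (Units.coeHom K).comp f) ?_).trans ?_
  · intro f g hfg
    ext x
    exact DFunLike.congr_fun hfg x
  · rw [Nat.card_eq_fintype_card, Nat.card_eq_fintype_card]
    exact h

/-- Additive automorphisms of an elementary abelian group, counted. -/
theorem card_units_end {V : Type*} [AddCommGroup V] [Finite V] (q k : ℕ) [Fact q.Prime]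
    (hq : ∀ x : V, q • x = 0) (hcard : Nat.card V = q ^ k) :
    Nat.card (AddMonoid.End V)ˣ = ∏ i : Fin k, (q ^ k - q ^ (i : ℕ)) := by
  classical
  let M : Module (ZMod q) V := AddCommGroup.zmodModule (n := q) hq
  haveI := Fintype.ofFinite V
  have hk : Module.finrank (ZMod q) V = k := by
    have b0 := Module.finBasis (ZMod q) V
    rw [Nat.card_congr b0.equivFun.toEquiv, Nat.card_fun, Nat.card_zmod, Nat.card_fin] at hcard
    exact Nat.pow_right_injective (Fact.out : q.Prime).two_le hcard
  let b : Module.Basis (Fin k) (ZMod q) V := Module.finBasisOfFinrankEq (ZMod q) V hk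
  let e1 : AddMonoid.End V ≃* Module.End (ZMod q) V :=
    { toFun := fun f => AddMonoidHom.toZModLinearMap q f
      invFun := fun f => f.toAddMonoidHom
      left_inv := fun f => rfl
      right_inv := fun f => by ext; rfl
      map_mul' := fun f g => LinearMap.ext fun x => by
        rw [Module.End.mul_apply]; rfl }
  let e2 : Module.End (ZMod q) V ≃* Matrix (Fin k) (Fin k) (ZMod q) :=
    (LinearMap.toMatrixAlgEquiv b).toMulEquiv
  rw [Nat.card_congr (Units.mapEquiv (e1.trans e2)).toEquiv]
  rw [Matrix.card_GL_field, ZMod.card]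

variable {X : Type u} [Group X] [Finite X]

/-- A normal `q`-subgroup acts trivially in a completely reducible action on a `q`-group. -/
theorem normal_qgroup_trivial {V : Type v} [AddCommGroup V] [Finite V] [DistribMulAction X V]
    [FaithfulSMul X V] (hcr : CR X V) (q k : ℕ) [Fact q.Prime] (hcard : Nat.card V = q ^ k)
    (N : Subgroup X) [N.Normal] (hN : IsPGroup q N) : N = ⊥ := by
  let U : AddSubgroup V :=
    { carrier := {x | ∀ n ∈ N, n • x = x}
      zero_mem' := fun n _ => smul_zero n
      add_mem' := fun {x y} hx hy n hn => by rw [smul_add, hx n hn, hy n hn]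
      neg_mem' := fun {x} hx n hn => by rw [smul_neg, hx n hn] }
  have hU : ∀ a : X, ∀ v ∈ U, a • v ∈ U := by
    intro a v hv n hn
    have := hv (a⁻¹ * n * a) (by
      simpa using (inferInstance : N.Normal).conj_mem n hn a⁻¹)
    rw [mul_smul, mul_smul, inv_smul_eq_iff] at this
    exact this
  obtain ⟨W, hW, hd, hs⟩ := hcr U hU
  have hWbot : W = ⊥ := by
    by_contra hne
    haveI : Nontrivial W := (AddSubgroup.nontrivial_iff_ne_bot W).2 hne
    letI : MulAction N W :=
      { smul := fun n w => ⟨(n : X) • (w : V), hW n w w.2⟩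
        one_smul := fun w => Subtype.ext (one_smul X (w : V))
        mul_smul := fun a b w => Subtype.ext (mul_smul (a : X) (b : X) (w : V)) }
    have hdvd : q ∣ Nat.card W := by
      obtain ⟨j, -, hj⟩ := (Nat.dvd_prime_pow Fact.out).1 (hcard ▸ W.card_addSubgroup_dvd_card)
      have hgt := Finite.one_lt_card (α := W)
      rcases j with _ | j
      · rw [hj, pow_zero] at hgt; omega
      · rw [hj]; exact dvd_pow_self _ (Nat.succ_ne_zero j)
    have h0 : (0 : W) ∈ MulAction.fixedPoints N W := fun n => Subtype.ext (smul_zero (n : X))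
    obtain ⟨w, hw, hw0⟩ := hN.exists_fixed_point_of_prime_dvd_card_of_fixed_point W hdvd h0
    have hwU : (w : V) ∈ U := fun n hn => congrArg Subtype.val (hw ⟨n, hn⟩)
    have : (w : V) ∈ U ⊓ W := ⟨hwU, w.2⟩
    rw [hd, AddSubgroup.mem_bot] at this
    exact hw0 (Subtype.ext this.symm)
  rw [hWbot, sup_bot_eq] at hs
  refine (Subgroup.eq_bot_iff_forall N).2 fun n hn => eq_of_smul_eq_smul fun x : V => ?_
  rw [one_smul]
  exact (show x ∈ U from hs ▸ AddSubgroup.mem_top x) n hn

/-- Order `s * q ^ a` without normal `q`-subgroups. -/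
theorem core_bound [Group.IsSolvable X] {s q a : ℕ} [Fact s.Prime] [Fact q.Prime] (hsq : s ≠ q)
    (hcard : Nat.card X ∣ s * q ^ a)
    (hq : ∀ N : Subgroup X, N.Normal → IsPGroup q N → N = ⊥) :
    Nat.card X ∣ s * (s - 1) := by
  have hs : s.Prime := Fact.out
  by_cases hsX : s ∣ Nat.card X
  swap
  · have h1 : Nat.card X ∣ q ^ a :=
      (Nat.Coprime.dvd_of_dvd_mul_left ((hs.coprime_iff_not_dvd.2 hsX).symm) hcard)
    obtain ⟨j, -, hj⟩ := (Nat.dvd_prime_pow Fact.out).1 h1
    have htop : (⊤ : Subgroup X) = ⊥ :=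
      hq ⊤ inferInstance (IsPGroup.of_card (n := j) (Subgroup.card_top.trans hj))
    rw [← Subgroup.card_top, htop, Subgroup.card_bot]
    exact one_dvd _
  haveI : Nontrivial X := by
    have := Nat.le_of_dvd Nat.card_pos hsX
    exact Finite.one_lt_card_iff_nontrivial.1 (lt_of_lt_of_le hs.one_lt this)
  -- a non-trivial abelian normal subgroup
  obtain ⟨D, hDn, hD1, hDc⟩ : ∃ D : Subgroup X, D.Normal ∧ D ≠ ⊥ ∧ IsMulCommutative D := by
    obtain ⟨n, hn⟩ := (inferInstance : Group.IsSolvable X).solvable
    classical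
    let m := Nat.find (⟨n, hn⟩ : ∃ n, derivedSeries X n = ⊥)
    have hm : derivedSeries X m = ⊥ := Nat.find_spec (⟨n, hn⟩ : ∃ n, derivedSeries X n = ⊥)
    rcases Nat.eq_zero_or_pos m with h0 | h0
    · rw [h0, derivedSeries_zero] at hm
      exact absurd hm top_ne_bot
    obtain ⟨j, hj⟩ : ∃ j, m = j + 1 := ⟨m - 1, by omega⟩
    refine ⟨derivedSeries X j, inferInstance, Nat.find_min (⟨n, hn⟩ : ∃ n, derivedSeries X n = ⊥)
      (by change j < m; omega), ?_⟩
    rw [hj, derivedSeries_succ, Subgroup.commutator_eq_bot_iff_le_centralizer] at hm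
    exact ⟨⟨fun x y => Subtype.ext (Subgroup.mem_centralizer_iff.1 (hm y.2) x x.2)⟩⟩
  haveI := hDn
  letI : CommGroup D := { (inferInstance : Group D) with mul_comm := fun x y => hDc.is_comm.comm x y }
  -- its `q`-part is trivial, so it has order `s`
  have hqD : ¬ q ∣ Nat.card D := by
    intro hdvd
    let Q : Sylow q D := default
    haveI : (Q : Subgroup D).Normal := Subgroup.normal_of_comm _
    haveI := Sylow.characteristic_of_normal Q inferInstance
    have hbot := hq ((Q : Subgroup D).map D.subtype) inferInstance (Q.isPGroup'.map D.subtype)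
    rw [Subgroup.map_eq_bot_iff_of_injective _ D.subtype_injective] at hbot
    exact Q.ne_bot_of_dvd_card hdvd hbot
  have hDs : Nat.card D = s := by
    have h1 : Nat.card D ∣ s :=
      (Nat.Coprime.dvd_of_dvd_mul_right
        (((Fact.out : q.Prime).coprime_iff_not_dvd.2 hqD).symm.pow_right a)
        (D.card_subgroup_dvd_card.trans hcard))
    exact ((Nat.dvd_prime hs).1 h1).resolve_left fun h => hD1 (Subgroup.card_eq_one.1 h)
  haveI : IsCyclic D := isCyclic_of_prime_card hDs
  -- the centraliser
  set C := Subgroup.centralizer (D : Set X) with hC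
  haveI : C.Normal := by rw [hC]; infer_instance
  have hDC : D ≤ C := fun x hx => Subgroup.mem_centralizer_iff.2 fun y hy =>
    congrArg Subtype.val (hDc.is_comm.comm ⟨y, hy⟩ ⟨x, hx⟩)
  have hidx : C.index ∣ s - 1 := by
    let φ : X →* MulAut D := MulAut.conjNormal
    have hker : φ.ker = C := by
      ext x
      rw [MonoidHom.mem_ker, hC, Subgroup.mem_centralizer_iff]
      constructor
      · intro h d hd
        have := congrArg Subtype.val (DFunLike.congr_fun h ⟨d, hd⟩)
        simp only [φ, MulAut.conjNormal_apply, MulAut.one_apply] at this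
        exact (mul_inv_eq_iff_eq_mul.1 this).symm
      · intro h
        ext d
        simp only [φ, MulAut.conjNormal_apply, MulAut.one_apply]
        exact mul_inv_eq_iff_eq_mul.2 (h d d.2).symm
    rw [← hker, Subgroup.index_ker]
    have h1 : Nat.card (MulAut D) = s - 1 := by
      rw [IsCyclic.card_mulAut, hDs, Nat.totient_prime hs]
    rw [← h1]
    exact Subgroup.card_subgroup_dvd_card _
  -- the centraliser has no `q`-part
  have hqC : ¬ q ∣ Nat.card C := by
    intro hdvd
    let Q : Sylow q C := default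
    have hnorm : (Q : Subgroup C).Normal := by
      rw [← Subgroup.normalizer_eq_top_iff]
      refine top_unique ?_
      have hDcen : D.subgroupOf C ≤ Subgroup.normalizer ((Q : Subgroup C) : Set C) := by
        intro d hd
        rw [Subgroup.mem_normalizer_iff]
        intro h
        have hcomm : d * h = h * d := Subtype.ext
          ((Subgroup.mem_centralizer_iff.1 h.2 (d : X) hd))
        have : d * h * d⁻¹ = h := by rw [hcomm, mul_inv_cancel_right]
        rw [this]
      have hsup : D.subgroupOf C ⊔ (Q : Subgroup C) = ⊤ := by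
        apply Subgroup.eq_top_of_card_eq
        apply Nat.dvd_antisymm (Subgroup.card_subgroup_dvd_card _)
        have e1 : Nat.card (D.subgroupOf C) = s := by
          rw [Nat.card_congr (Subgroup.subgroupOfEquivOfLe hDC).toEquiv, hDs]
        have d1 := Subgroup.card_dvd_of_le (le_sup_left : D.subgroupOf C ≤ D.subgroupOf C ⊔ Q)
        have d2 := Subgroup.card_dvd_of_le (le_sup_right : (Q : Subgroup C) ≤ D.subgroupOf C ⊔ Q)
        obtain ⟨i, hi, hiC⟩ : ∃ i j, Nat.card C = s ^ j * q ^ i ∧ j ≤ 1 := by
          obtain ⟨⟨x, y, hx, hy, hxy⟩⟩ : Nonempty (∃ x y, x ∣ s ∧ y ∣ q ^ a ∧ x * y = Nat.card C) := by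
            obtain ⟨x, y, hx, hy, hxy⟩ := exists_dvd_and_dvd_of_dvd_mul
              (C.card_subgroup_dvd_card.trans hcard)
            exact ⟨x, y, hx, hy, hxy.symm⟩
          obtain ⟨i, -, rfl⟩ := (Nat.dvd_prime_pow Fact.out).1 hy
          rcases (Nat.dvd_prime hs).1 hx with rfl | rfl
          · exact ⟨i, 0, by rw [← hxy, pow_zero], Nat.zero_le 1⟩
          · exact ⟨i, 1, by rw [← hxy, pow_one], le_rfl⟩
        obtain ⟨hCi, hi1⟩ := hiC
        rw [hCi]
        refine Nat.Coprime.mul_dvd_of_dvd_of_dvd ?_ ?_ ?_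
        · exact Nat.Coprime.pow _ _ ((Nat.coprime_primes hs Fact.out).2 hsq)
        · exact (pow_dvd_pow s hi1).trans (by rw [pow_one, ← e1]; exact d1)
        · refine dvd_trans ?_ d2
          rw [Q.card_eq_multiplicity]
          refine pow_dvd_pow q ?_
          rw [← Nat.Prime.pow_dvd_iff_le_factorization Fact.out (Nat.card_pos.ne'), hCi]
          exact dvd_mul_left _ _
      rw [← hsup]
      exact sup_le hDcen Subgroup.le_normalizer
    haveI := hnorm
    haveI := Sylow.characteristic_of_normal Q inferInstance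
    have hbot := hq ((Q : Subgroup C).map C.subtype) inferInstance (Q.isPGroup'.map C.subtype)
    rw [Subgroup.map_eq_bot_iff_of_injective _ C.subtype_injective] at hbot
    exact Q.ne_bot_of_dvd_card hdvd hbot
  have hCs : Nat.card C ∣ s :=
    Nat.Coprime.dvd_of_dvd_mul_right
      (((Fact.out : q.Prime).coprime_iff_not_dvd.2 hqC).symm.pow_right a)
      (C.card_subgroup_dvd_card.trans hcard)
  rw [← C.card_mul_index]
  exact Nat.mul_dvd_mul hCs hidx

/-- A group of order dividing `9 * 7` without normal `7`-subgroup. -/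
theorem not_seven (hcard : Nat.card X ∣ 63)
    (h7 : ∀ N : Subgroup X, N.Normal → IsPGroup 7 N → N = ⊥) : Nat.card X ∣ 9 := by
  haveI : Fact (Nat.Prime 7) := ⟨by norm_num⟩
  by_cases hdvd : 7 ∣ Nat.card X
  swap
  · exact Nat.Coprime.dvd_of_dvd_mul_right
      (((Fact.out : Nat.Prime 7).coprime_iff_not_dvd.2 hdvd).symm) hcard
  exfalso
  let Q : Sylow 7 X := default
  have h1 := card_sylow_modEq_one 7 X
  have h2 : Nat.card (Sylow 7 X) ∣ 63 :=
    (Q.card_dvd_index.trans (Subgroup.index_dvd_card _)).trans hcard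
  have h3 : Nat.card (Sylow 7 X) = 1 := by
    have hle : Nat.card (Sylow 7 X) ≤ 63 := Nat.le_of_dvd (by norm_num) h2
    rw [Nat.ModEq] at h1
    interval_cases (Nat.card (Sylow 7 X)) <;> omega
  haveI : Subsingleton (Sylow 7 X) := (Nat.card_eq_one_iff_unique.1 h3).1
  exact Q.ne_bot_of_dvd_card hdvd (h7 Q Q.normal_of_subsingleton Q.isPGroup')

end Cfsg.Lib.OddBase
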