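import Mathlib

/-!
Pairs of vectors with trivial common stabiliser in groups of odd order: definitions and counting.
-/

set_option autoImplicit false

namespace Cfsg.Lib.OddBase

universe u v

/-- Two vectors whose common stabiliser acts trivially. -/
def Pair (A : Type u) (V : Type v) [Group A] [AddCommGroup V] [DistribMulAction A V] : Prop :=
  ∃ v w : V, ∀ a : A, a • v = v → a • w = w → ∀ x : V, a • x = x

/-- Every invariant subgroup has an invariant complement. -/
def CR (A : Type u) (V : Type v) [Group A] [AddCommGroup V] [DistribMulAction A V] : Prop :=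
  ∀ U : AddSubgroup V, (∀ a : A, ∀ v ∈ U, a • v ∈ U) →
    ∃ W : AddSubgroup V, (∀ a : A, ∀ w ∈ W, a • w ∈ W) ∧ U ⊓ W = ⊥ ∧ U ⊔ W = ⊤

/-- The induction hypothesis: the theorem for all groups of order below `n`. -/
def Below (n : ℕ) : Prop :=
  ∀ (A V : Type u) [Group A] [Finite A] [AddCommGroup V] [Finite V] [DistribMulAction A V],
    Nat.card A < n → Odd (Nat.card A) → CR A V → Pair A V

variable {A : Type u} {V : Type v} [Group A] [Finite A] [AddCommGroup V] [DistribMulAction A V]

/-- In a group of odd order an element fixing a point when squared fixes it. -/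
theorem smul_eq_of_sq {X : Type*} [MulAction A X] (hA : Odd (Nat.card A)) (a : A) (x : X)
    (h : (a * a) • x = x) : a • x = x := by
  obtain ⟨k, hk⟩ := hA
  have h1 : a = ((a * a) ^ k)⁻¹ := by
    apply eq_inv_of_mul_eq_one_left
    rw [← pow_two, ← pow_mul, ← pow_succ', ← hk]
    exact pow_card_eq_one'
  have h2 : ((a * a) ^ k) • x = x := MulAction.mem_stabilizer_iff.1
    (pow_mem (MulAction.mem_stabilizer_iff.2 h) k)
  conv_lhs => rw [h1]
  rw [inv_smul_eq_iff, h2]

omit [Finite A] in
/-- The pair can be chosen with different entries. -/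
theorem pair_ne [Nontrivial V] (h : Pair A V) :
    ∃ v w : V, v ≠ w ∧ ∀ a : A, a • v = v → a • w = w → ∀ x : V, a • x = x := by
  obtain ⟨v, w, hvw⟩ := h
  by_cases he : v = w
  · subst he
    by_cases hv : v = 0
    · subst hv
      obtain ⟨x, hx⟩ := exists_ne (0 : V)
      exact ⟨x, 0, hx, fun a _ h0 y => hvw a h0 h0 y⟩
    · exact ⟨v, 0, hv, fun a h1 _ y => hvw a h1 h1 y⟩
  · exact ⟨v, w, he, hvw⟩

/-- An element of a group of odd order cannot exchange the two vectors of a regular pair. -/
theorem no_swap (hA : Odd (Nat.card A)) {v w : V} (hne : v ≠ w)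
    (hvw : ∀ a : A, a • v = v → a • w = w → ∀ x : V, a • x = x) (a : A) (h1 : a • v = w) :
    a • w ≠ v := by
  intro h2
  have hv : (a * a) • v = v := by rw [mul_smul, h1, h2]
  exact hne (by rw [← smul_eq_of_sq hA a v hv, h1])

/-- A regular pair bounds the order of the group. -/
theorem card_le [Finite V] [Nontrivial V] [FaithfulSMul A V] (hA : Odd (Nat.card A))
    (h : Pair A V) : 2 * Nat.card A ≤ Nat.card V ^ 2 := by
  obtain ⟨v, w, hne, hvw⟩ := pair_ne h
  have hreg : ∀ a b : A, a • v = b • v → a • w = b • w → a = b := by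
    intro a b h1 h2
    have h3 := hvw (b⁻¹ * a) (by rw [mul_smul, h1, inv_smul_smul]) (by rw [mul_smul, h2, inv_smul_smul])
    exact (eq_of_smul_eq_smul fun x => by
      have := h3 x
      rw [mul_smul, inv_smul_eq_iff] at this
      exact this)
  let f : A ⊕ A → V × V := Sum.elim (fun a => (a • v, a • w)) (fun a => (a • w, a • v))
  have hswap : ∀ a b : A, f (.inl a) ≠ f (.inr b) := by
    intro a b h
    have h1 : a • v = b • w := congrArg Prod.fst h
    have h2 : a • w = b • v := congrArg Prod.snd h
    exact no_swap hA hne hvw (b⁻¹ * a) (by rw [mul_smul, h1, inv_smul_smul])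
      (by rw [mul_smul, h2, inv_smul_smul])
  have hf : Function.Injective f := by
    rintro (a | a) (b | b) h
    · exact congrArg _ (hreg a b (congrArg Prod.fst h) (congrArg Prod.snd h))
    · exact absurd h (hswap a b)
    · exact absurd h.symm (hswap b a)
    · exact congrArg _ (hreg a b (congrArg Prod.snd h) (congrArg Prod.fst h))
  have := Nat.card_le_card_of_injective f hf
  rw [Nat.card_sum, Nat.card_prod] at this
  rw [pow_two]
  omega

/-- The fixed vectors of an element. -/
def fixes (a : A) : Set V := {x | a • x = x}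

/-- Counting: if every non-trivial element fixes few pairs, then a regular pair exists. -/
theorem pair_of_count [Finite V] (h : ∀ a : A, a ≠ 1 →
    (Nat.card (fixes (V := V) a)) ^ 2 * Nat.card A ≤ Nat.card V ^ 2) : Pair A V := by
  classical
  haveI := Fintype.ofFinite A
  haveI := Fintype.ofFinite V
  by_contra hno
  have hall : ∀ p : V × V, ∃ a : A, a ≠ 1 ∧ a • p.1 = p.1 ∧ a • p.2 = p.2 := by
    intro p
    by_contra hp
    push Not at hp
    refine hno ⟨p.1, p.2, fun a h1 h2 x => ?_⟩
    by_cases ha : a = 1
    · rw [ha, one_smul]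
    · exact absurd h2 (hp a ha h1)
  let F : A → Finset (V × V) := fun a => Finset.univ.filter fun p => a • p.1 = p.1 ∧ a • p.2 = p.2
  have hcov : (Finset.univ : Finset (V × V)) ⊆ (Finset.univ.erase (1 : A)).biUnion F := by
    intro p _
    obtain ⟨a, ha, h1, h2⟩ := hall p
    simp only [Finset.mem_biUnion, Finset.mem_erase, Finset.mem_univ, and_true]
    exact ⟨a, ha, by simp [F, h1, h2]⟩
  have h1 := (Finset.card_le_card hcov).trans Finset.card_biUnion_le
  have hF : ∀ a : A, (F a).card = (Nat.card (fixes (V := V) a)) ^ 2 := by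
    intro a
    have : F a = (Finset.univ.filter fun x : V => a • x = x) ×ˢ (Finset.univ.filter fun x : V => a • x = x) := by
      ext p; simp [F]
    rw [this, Finset.card_product, pow_two, Nat.card_eq_fintype_card, Fintype.card_subtype]
    rfl
  have h2 : (Finset.univ : Finset (V × V)).card = Nat.card V ^ 2 := by
    rw [Finset.card_univ, Fintype.card_prod, Nat.card_eq_fintype_card, pow_two]
  rw [h2] at h1
  have h3 : (∑ a ∈ Finset.univ.erase (1 : A), (F a).card) * Nat.card A ≤
      (Nat.card A - 1) * Nat.card V ^ 2 := by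
    rw [Finset.sum_mul]
    refine (Finset.sum_le_card_nsmul _ _ (Nat.card V ^ 2) fun a ha => ?_).trans ?_
    · rw [hF]; exact h a (Finset.ne_of_mem_erase ha)
    · simp only [smul_eq_mul, Finset.card_erase_of_mem (Finset.mem_univ _), Finset.card_univ,
        Nat.card_eq_fintype_card, le_refl]
  have h4 := Nat.mul_le_mul_right (Nat.card A) h1
  have hV : 0 < Nat.card V ^ 2 := pow_pos Nat.card_pos 2
  have hA : 0 < Nat.card A := Nat.card_pos
  have h5 := h4.trans h3
  obtain ⟨m, hm⟩ := Nat.exists_eq_succ_of_ne_zero hA.ne'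
  rw [hm, Nat.succ_sub_one, Nat.succ_eq_add_one, mul_add, mul_one, mul_comm] at h5
  omega

end Cfsg.Lib.OddBase
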