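import Cfsg.Agent.OddBase.Decomp

/-!
The socle of the centraliser of a maximal abelian normal subgroup, modulo that subgroup.
-/

set_option autoImplicit false
set_option linter.unusedSectionVars false

namespace Cfsg.Lib.OddBase

open Subgroup

universe u

variable {A : Type u} [Group A] [Finite A]

/-- A normal subgroup just above `Z` inside `C`. -/
def IsLayer (Z C M : Subgroup A) : Prop :=
  M.Normal ∧ Z < M ∧ M ≤ C ∧ ∀ N : Subgroup A, N.Normal → Z ≤ N → N ≤ M → N = Z ∨ N = M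

theorem exists_layer_le {Z C : Subgroup A} :
    ∀ U : Subgroup A, U.Normal → Z < U → U ≤ C → ∃ M, IsLayer Z C M ∧ M ≤ U := by
  intro U
  induction U using WellFoundedLT.induction with
  | ind U ih =>
    intro hU hZU hUC
    by_cases h : ∀ N : Subgroup A, N.Normal → Z ≤ N → N ≤ U → N = Z ∨ N = U
    · exact ⟨U, ⟨hU, hZU, hUC, h⟩, le_rfl⟩
    · push Not at h
      obtain ⟨N, hN, hZN, hNU, h1, h2⟩ := h
      obtain ⟨M, hM, hle⟩ := ih N (lt_of_le_of_ne hNU h2) hN (lt_of_le_of_ne hZN (Ne.symm h1))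
        (hNU.trans hUC)
      exact ⟨M, hM, hle.trans hNU⟩

/-- The sum of the layers. -/
def socle (Z C : Subgroup A) : Subgroup A := sSup {M | IsLayer Z C M}

theorem layer_le_socle {Z C M : Subgroup A} (h : IsLayer Z C M) : M ≤ socle Z C := le_sSup h

theorem socle_le (Z C : Subgroup A) : socle Z C ≤ C := sSup_le fun _ h => h.2.2.1

instance socle_normal (Z C : Subgroup A) : (socle Z C).Normal := by
  rw [socle, sSup_eq_iSup']
  haveI : ∀ i : {M // IsLayer Z C M}, (i : Subgroup A).Normal := fun i => i.2.1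
  exact Subgroup.iSup_normal _

variable {Z : Subgroup A} [Z.Normal] {C : Subgroup A}

theorem layer_comm [Group.IsSolvable A] {M : Subgroup A} (h : IsLayer Z C M) : ⁅M, M⁆ ≤ Z := by
  haveI := h.1
  rcases h.2.2.2 (Z ⊔ ⁅M, M⁆) inferInstance le_sup_left
    (sup_le h.2.1.le (Subgroup.commutator_le_left M M)) with he | he
  · exact he ▸ le_sup_right
  · exfalso
    have hne : M.map (QuotientGroup.mk' Z) ≠ ⊥ := by
      intro hb
      rw [Subgroup.map_eq_bot_iff, QuotientGroup.ker_mk'] at hb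
      exact not_le_of_gt h.2.1 hb
    haveI : Group.IsSolvable (A ⧸ Z) :=
      Group.isSolvable_of_surjective (QuotientGroup.mk'_surjective Z)
    refine (Group.IsSolvable.commutator_lt_of_ne_bot hne).ne ?_
    rw [← Subgroup.map_commutator]
    conv_rhs => rw [← he]
    rw [Subgroup.map_sup, (Subgroup.map_eq_bot_iff Z).2 (by rw [QuotientGroup.ker_mk']), bot_sup_eq]

theorem layer_exp [Group.IsSolvable A] {M : Subgroup A} (h : IsLayer Z C M) :
    ∃ q : ℕ, q.Prime ∧ q ∣ Z.relIndex M ∧ ∀ x ∈ M, x ^ q ∈ Z := by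
  haveI := h.1
  have hidx : Z.relIndex M ≠ 1 := fun h1 => not_le_of_gt h.2.1 (Subgroup.relIndex_eq_one.1 h1)
  obtain ⟨q, hq, hqd⟩ := Nat.exists_prime_and_dvd hidx
  haveI : Fact q.Prime := ⟨hq⟩
  have hcm : ∀ x ∈ M, ∀ y ∈ M, Commute (x : A ⧸ Z) (y : A ⧸ Z) := by
    intro x hx y hy
    have h1 := layer_comm h (Subgroup.commutator_mem_commutator hx hy)
    rw [← QuotientGroup.eq_one_iff, commutatorElement_def] at h1
    change ((x : A ⧸ Z)) * y = y * x
    simp only [QuotientGroup.mk_mul, QuotientGroup.mk_inv] at h1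
    rwa [mul_inv_eq_one, mul_inv_eq_iff_eq_mul] at h1
  let U : Subgroup A :=
    { carrier := {x | x ∈ M ∧ x ^ q ∈ Z}
      one_mem' := ⟨one_mem M, by rw [one_pow]; exact one_mem Z⟩
      mul_mem' := fun {x y} hx hy => ⟨mul_mem hx.1 hy.1, by
        rw [← QuotientGroup.eq_one_iff, QuotientGroup.mk_pow, QuotientGroup.mk_mul,
          (hcm x hx.1 y hy.1).mul_pow, ← QuotientGroup.mk_pow, ← QuotientGroup.mk_pow,
          (QuotientGroup.eq_one_iff _).2 hx.2, (QuotientGroup.eq_one_iff _).2 hy.2, mul_one]⟩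
      inv_mem' := fun {x} hx => ⟨inv_mem hx.1, by rw [inv_pow]; exact inv_mem hx.2⟩ }
  have hUn : U.Normal := ⟨fun x hx g => ⟨h.1.conj_mem x hx.1 g, by
    rw [conj_pow]; exact (inferInstance : Z.Normal).conj_mem _ hx.2 g⟩⟩
  rcases h.2.2.2 U hUn (fun z hz => ⟨h.2.1.le hz, pow_mem hz q⟩) (fun x hx => hx.1) with he | he
  · exfalso
    have hdvd : q ∣ Nat.card (M.map (QuotientGroup.mk' Z)) := by
      rw [Subgroup.relIndex] at hqd
      rwa [← Subgroup.relIndex_bot_left, ← (Subgroup.map_eq_bot_iff Z).2 (le_of_eq (QuotientGroup.ker_mk' Z).symm),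
        Subgroup.relIndex_map_map, QuotientGroup.ker_mk', sup_idem, sup_eq_left.2 h.2.1.le]
    obtain ⟨⟨x, hx⟩, hxo⟩ := exists_prime_orderOf_dvd_card' q hdvd
    obtain ⟨m, hm, rfl⟩ := hx
    have hxo' : orderOf (m : A ⧸ Z) = q := by
      rw [← hxo, ← Subgroup.orderOf_coe]; rfl
    have hmU : m ∈ U := ⟨hm, by
      rw [← QuotientGroup.eq_one_iff, QuotientGroup.mk_pow, ← hxo', pow_orderOf_eq_one]⟩
    rw [he] at hmU
    rw [(QuotientGroup.eq_one_iff m).2 hmU, orderOf_one] at hxo'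
    exact hq.ne_one hxo'.symm
  · exact ⟨q, hq, hqd, fun x hx => (he.symm ▸ hx : x ∈ U).2⟩

theorem socle_comm [Group.IsSolvable A] : ⁅socle Z C, socle Z C⁆ ≤ Z := by
  set f := QuotientGroup.mk' Z
  have hpair : ∀ M N : Subgroup A, IsLayer Z C M → IsLayer Z C N →
      M.map f ≤ Subgroup.centralizer (N.map f : Set (A ⧸ Z)) := by
    intro M N hM hN
    rw [← Subgroup.commutator_eq_bot_iff_le_centralizer, ← Subgroup.map_commutator,
      Subgroup.map_eq_bot_iff, QuotientGroup.ker_mk']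
    by_cases hMN : M = N
    · subst hMN; exact layer_comm hM
    haveI := hM.1
    haveI := hN.1
    refine (Subgroup.commutator_le_inf M N).trans ?_
    rcases hM.2.2.2 (M ⊓ N) inferInstance (le_inf hM.2.1.le hN.2.1.le) inf_le_left with h | h
    · exact h.le
    · rcases hN.2.2.2 M hM.1 hM.2.1.le (inf_eq_left.1 h) with h' | h'
      · exact absurd h' hM.2.1.ne'
      · exact absurd h' hMN
  have hself : (socle Z C).map f ≤ Subgroup.centralizer ((socle Z C).map f : Set (A ⧸ Z)) := by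
    have h1 : ∀ N, IsLayer Z C N → (socle Z C).map f ≤ Subgroup.centralizer (N.map f : Set (A ⧸ Z)) := by
      intro N hN
      rw [socle, sSup_eq_iSup', Subgroup.map_iSup]
      exact iSup_le fun M => hpair M N M.2 hN
    conv_lhs => rw [socle, sSup_eq_iSup', Subgroup.map_iSup]
    exact iSup_le fun N => Subgroup.le_centralizer_iff.1 (h1 N N.2)
  rwa [← Subgroup.commutator_eq_bot_iff_le_centralizer, ← Subgroup.map_commutator,
    Subgroup.map_eq_bot_iff, QuotientGroup.ker_mk'] at hself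

/-- The module: the socle modulo `Z`. -/
def socBar (Z C : Subgroup A) [Z.Normal] : Subgroup (A ⧸ Z) := (socle Z C).map (QuotientGroup.mk' Z)

theorem socBar_comm [Group.IsSolvable A] {x y : A ⧸ Z} (hx : x ∈ socBar Z C) (hy : y ∈ socBar Z C) :
    x * y = y * x := by
  have h : socBar Z C ≤ Subgroup.centralizer (socBar Z C : Set (A ⧸ Z)) := by
    rw [← Subgroup.commutator_eq_bot_iff_le_centralizer, socBar, ← Subgroup.map_commutator,
      Subgroup.map_eq_bot_iff, QuotientGroup.ker_mk']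
    exact socle_comm
  exact (Subgroup.mem_centralizer_iff.1 (h hx) y hy).symm

/-- Complements: every invariant subgroup between `Z` and the socle has a complement. -/
theorem socle_complement {N : Subgroup A} (hN : N.Normal) (hZN : Z ≤ N) (hNL : N ≤ socle Z C)
    (hZL : Z ≤ socle Z C) :
    ∃ W : Subgroup A, W.Normal ∧ Z ≤ W ∧ W ≤ socle Z C ∧ W ⊓ N = Z ∧ N ⊔ W = socle Z C := by
  classical
  let P : Subgroup A → Prop := fun W => W.Normal ∧ Z ≤ W ∧ W ≤ socle Z C ∧ W ⊓ N = Z
  obtain ⟨W, ⟨hWn, hZW, hWL, hWN⟩, hmax⟩ : ∃ W, P W ∧ ∀ W', P W' → W ≤ W' → W' = W := by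
    haveI := Fintype.ofFinite (Subgroup A)
    obtain ⟨W, hW, hWmax⟩ := (Finset.univ.filter P).exists_max_image (fun W => Nat.card W)
      ⟨Z, Finset.mem_filter.2 ⟨Finset.mem_univ _, (inferInstance : Z.Normal), le_rfl, hZL, inf_eq_left.2 hZN⟩⟩
    refine ⟨W, (Finset.mem_filter.1 hW).2, fun W' hW' hle => ?_⟩
    exact (Subgroup.eq_of_le_of_card_ge hle (hWmax W' (by simp [hW']))).symm
  refine ⟨W, hWn, hZW, hWL, hWN, le_antisymm (sup_le hNL hWL) (sSup_le fun M hM => ?_)⟩
  by_contra hMle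
  haveI := hM.1
  haveI := hN
  haveI := hWn
  have hMS : M ⊓ (N ⊔ W) = Z := by
    rcases hM.2.2.2 (M ⊓ (N ⊔ W)) inferInstance (le_inf hM.2.1.le (hZN.trans le_sup_left))
      inf_le_left with h | h
    · exact h
    · exact absurd (inf_eq_left.1 h) hMle
  have hP : P (W ⊔ M) := by
    refine ⟨inferInstance, hZW.trans le_sup_left, sup_le hWL (layer_le_socle hM), ?_⟩
    refine le_antisymm ?_ (le_inf (hZW.trans le_sup_left) hZN)
    intro x hx
    have hxs : x ∈ ((W ⊔ M : Subgroup A) : Set A) := hx.1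
    rw [Subgroup.normal_mul] at hxs
    obtain ⟨w, hw, m, hm, rfl⟩ := hxs
    have hm' : m ∈ M ⊓ (N ⊔ W) := ⟨hm, by
      have : m = w⁻¹ * (w * m) := by group
      rw [this]
      exact Subgroup.mul_mem _ (Subgroup.inv_mem _ (Subgroup.mem_sup_right hw)) (Subgroup.mem_sup_left hx.2)⟩
    rw [hMS] at hm'
    have hwN : w ∈ W ⊓ N := ⟨hw, by
      have : w = (w * m) * m⁻¹ := by group
      rw [this]; exact Subgroup.mul_mem N hx.2 (Subgroup.inv_mem N (hZN hm'))⟩
    rw [hWN] at hwN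
    exact mul_mem hwN hm'
  exact hMle ((le_of_le_of_eq le_sup_right (hmax _ hP le_sup_left)).trans le_sup_right)

end Cfsg.Lib.OddBase
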