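import Cfsg.Agent.OddBase.Small
import Cfsg.Agent.S0205

/-!
Gluck's lemma for permutation groups of odd order: some set has trivial setwise stabiliser.
-/

set_option autoImplicit false
set_option linter.unusedSectionVars false

namespace Cfsg.Lib.OddBase

open scoped Pointwise

universe u

/-- A non-trivial solvable group has a non-trivial abelian normal subgroup. -/
theorem exists_abelian_normal {X : Type*} [Group X] [Nontrivial X] [Group.IsSolvable X] :
    ∃ D : Subgroup X, D.Normal ∧ D ≠ ⊥ ∧ IsMulCommutative D := by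
  classical
  have hex : ∃ n, derivedSeries X n = ⊥ := (inferInstance : Group.IsSolvable X).solvable
  let m := Nat.find hex
  have hm : derivedSeries X m = ⊥ := Nat.find_spec hex
  rcases Nat.eq_zero_or_pos m with h0 | h0
  · rw [h0, derivedSeries_zero] at hm
    exact absurd hm top_ne_bot
  obtain ⟨j, hj⟩ : ∃ j, m = j + 1 := ⟨m - 1, by omega⟩
  refine ⟨derivedSeries X j, inferInstance, Nat.find_min hex (by change j < m; omega), ?_⟩
  rw [hj, derivedSeries_succ, Subgroup.commutator_eq_bot_iff_le_centralizer] at hm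
  exact ⟨⟨fun x y => Subtype.ext (Subgroup.mem_centralizer_iff.1 (hm y.2) x x.2)⟩⟩

/-- A set invariant only under elements acting trivially. -/
def RegSet (G α : Type*) [Group G] [MulAction G α] : Prop :=
  ∃ S : Set α, ∀ g : G, g • S = S → ∀ x : α, g • x = x

section orbits

variable {G α : Type*} [Group G] [Finite G] [MulAction G α] [Finite α]

/-- The number of orbits of `g`. -/
noncomputable def cycNum (α : Type*) [MulAction G α] (g : G) : ℕ :=
  Nat.card (MulAction.orbitRel.Quotient (Subgroup.zpowers g) α)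

theorem card_invariant_le (g : G) :
    Nat.card {S : Set α // g • S = S} ≤ 2 ^ cycNum α g := by
  classical
  let π : α → MulAction.orbitRel.Quotient (Subgroup.zpowers g) α := Quotient.mk''
  have key : ∀ S : Set α, g • S = S → π ⁻¹' (π '' S) = S := by
    intro S hS
    refine Set.Subset.antisymm ?_ (Set.subset_preimage_image π S)
    rintro x ⟨y, hy, hxy⟩
    obtain ⟨⟨z, hz⟩, rfl⟩ := (Quotient.eq''.1 hxy : MulAction.orbitRel (Subgroup.zpowers g) α y x)
    have hz' : z⁻¹ ∈ MulAction.stabilizer G S := by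
      refine inv_mem ?_
      have := Subgroup.zpowers_le.2 (MulAction.mem_stabilizer_iff.2 hS)
      exact this hz
    have : (z⁻¹ : G) • (z • x) ∈ (z⁻¹ : G) • S := Set.smul_mem_smul_set hy
    rwa [inv_smul_smul, MulAction.mem_stabilizer_iff.1 hz'] at this
  refine (Nat.card_le_card_of_injective (fun S : {S : Set α // g • S = S} => π '' S.1) ?_).trans ?_
  · intro S T h
    apply Subtype.ext
    rw [← key S.1 S.2, ← key T.1 T.2]
    exact congrArg (Set.preimage π) h
  · haveI := Fintype.ofFinite (MulAction.orbitRel.Quotient (Subgroup.zpowers g) α)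
    rw [cycNum, Nat.card_eq_fintype_card, Nat.card_eq_fintype_card, Fintype.card_set]

theorem three_cycNum_le (hG : Odd (Nat.card G)) (g : G) :
    3 * cycNum α g ≤ Nat.card α + 2 * Nat.card (MulAction.fixedBy α g) := by
  classical
  haveI := Fintype.ofFinite α
  let Q := MulAction.orbitRel.Quotient (Subgroup.zpowers g) α
  haveI := Fintype.ofFinite Q
  let π : α → Q := Quotient.mk''
  have h1 : Fintype.card α = ∑ q : Q, (Finset.univ.filter fun x => π x = q).card := by
    rw [← Finset.card_univ, Finset.card_eq_sum_card_fiberwise (f := π) (t := Finset.univ)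
      (fun x _ => Finset.mem_univ _)]
  have h2 : Nat.card (MulAction.fixedBy α g) =
      ∑ q : Q, (Finset.univ.filter fun x => π x = q ∧ g • x = x).card := by
    rw [Nat.card_eq_fintype_card, Fintype.card_subtype]
    change (Finset.univ.filter fun x : α => g • x = x).card = _
    rw [Finset.card_eq_sum_card_fiberwise (f := π) (t := Finset.univ)
      (fun x _ => Finset.mem_univ _)]
    refine Finset.sum_congr rfl fun q _ => ?_
    rw [Finset.filter_filter]
    refine congrArg _ (Finset.filter_congr fun x _ => and_comm)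
  have h3 : ∀ q : Q, 3 ≤ (Finset.univ.filter fun x => π x = q).card +
      2 * (Finset.univ.filter fun x => π x = q ∧ g • x = x).card := by
    intro q
    obtain ⟨x, rfl⟩ := Quotient.exists_rep q
    have hx : x ∈ Finset.univ.filter fun y => π y = π x := by simp
    by_cases hfix : g • x = x
    · have h4 : 0 < (Finset.univ.filter fun y => π y = π x).card := Finset.card_pos.2 ⟨x, hx⟩
      have h5 : 0 < (Finset.univ.filter fun y => π y = π x ∧ g • y = y).card :=
        Finset.card_pos.2 ⟨x, by simp [hfix]⟩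
      change 3 ≤ (Finset.univ.filter fun y => π y = π x).card +
        2 * (Finset.univ.filter fun y => π y = π x ∧ g • y = y).card
      omega
    · have hgπ : ∀ y, π (g • y) = π y := fun y =>
        Quotient.sound' ⟨⟨g, Subgroup.mem_zpowers g⟩, rfl⟩
      have hne : g • g • x ≠ x := by
        intro h
        apply hfix
        obtain ⟨k, hk⟩ := hG
        have h1 : g = ((g * g) ^ k)⁻¹ := by
          apply eq_inv_of_mul_eq_one_left
          rw [← pow_two, ← pow_mul, ← pow_succ', ← hk]
          exact pow_card_eq_one'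
        have h2 : ((g * g) ^ k) • x = x := MulAction.mem_stabilizer_iff.1
          (pow_mem (MulAction.mem_stabilizer_iff.2 (by rw [mul_smul]; exact h)) k)
        conv_lhs => rw [h1]
        rw [inv_smul_eq_iff, h2]
      have h6 : ({x, g • x, g • g • x} : Finset α).card = 3 := by
        rw [Finset.card_eq_three]
        refine ⟨x, g • x, g • g • x, fun h => hfix h.symm, fun h => hne h.symm, fun h => hfix ?_, rfl⟩
        exact (MulAction.injective g h).symm
      have h7 : ({x, g • x, g • g • x} : Finset α) ⊆ Finset.univ.filter fun y => π y = π x := by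
        intro y hy
        simp only [Finset.mem_insert, Finset.mem_singleton] at hy
        rcases hy with rfl | rfl | rfl <;> simp [hgπ]
      have := Finset.card_le_card h7
      change 3 ≤ (Finset.univ.filter fun y => π y = π x).card + _
      omega
  have h4 := Finset.sum_le_sum fun q (_ : q ∈ (Finset.univ : Finset Q)) => h3 q
  rw [Finset.sum_const, Finset.card_univ, Finset.sum_add_distrib, ← h1, ← Finset.mul_sum, ← h2,
    smul_eq_mul] at h4
  rw [cycNum, Nat.card_eq_fintype_card, Nat.card_eq_fintype_card]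
  linarith

/-- Counting sets. -/
theorem regSet_of_count
    (h : ∀ [Fintype G] [DecidableEq G], ∑ g ∈ (Finset.univ.erase (1 : G)), 2 ^ cycNum α g < 2 ^ Nat.card α) :
    RegSet G α := by
  classical
  haveI := Fintype.ofFinite G
  haveI := Fintype.ofFinite α
  by_contra hno
  have hall : ∀ S : Set α, ∃ g : G, g ≠ 1 ∧ g • S = S := by
    intro S
    by_contra hS
    push Not at hS
    refine hno ⟨S, fun g hg x => ?_⟩
    by_cases h1 : g = 1
    · rw [h1, one_smul]
    · exact absurd hg (hS g h1)
  let F : G → Finset (Set α) := fun g => Finset.univ.filter fun S : Set α => g • S = S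
  have hcov : (Finset.univ : Finset (Set α)) ⊆ (Finset.univ.erase (1 : G)).biUnion F := by
    intro S _
    obtain ⟨g, hg, hgS⟩ := hall S
    simp only [Finset.mem_biUnion, Finset.mem_erase, Finset.mem_univ, and_true]
    exact ⟨g, hg, by simp [F, hgS]⟩
  have h1 := (Finset.card_le_card hcov).trans Finset.card_biUnion_le
  rw [Finset.card_univ, Fintype.card_set, ← Nat.card_eq_fintype_card (α := α)] at h1
  have h2 : ∀ g : G, (F g).card ≤ 2 ^ cycNum α g := fun g => by
    refine le_trans (le_of_eq ?_) (card_invariant_le (α := α) g)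
    rw [Nat.card_eq_fintype_card, Fintype.card_subtype]
  have h3 := h1.trans (Finset.sum_le_sum fun g _ => h2 g)
  exact absurd h (not_lt.2 h3)

end orbits

theorem pow_three_le {k : ℕ} (hk : 14 ≤ k) : (9 * k) ^ 3 ≤ 64 * 2 ^ (k + 1) := by
  induction k, hk using Nat.le_induction with
  | base => norm_num
  | succ k hk ih =>
    rw [pow_succ 2 (k + 1)]
    have h1 : (14 * (k + 1)) ^ 3 ≤ (15 * k) ^ 3 := Nat.pow_le_pow_left (by omega) 3
    rw [mul_pow, mul_pow] at h1
    rw [mul_pow] at ih ⊢
    nlinarith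

/-- The numerical fact behind the primitive case. -/
theorem count_lt {n A₀ : ℕ} (hn : 31 ≤ n) (h : 2 * A₀ ≤ n ^ 2) :
    n * A₀ * 2 ^ ((5 * n) / 9) ≤ 2 ^ n := by
  have hk := pow_three_le (k := (4 * n + 8) / 9) (by omega)
  have h1 : (4 * n) ^ 3 ≤ (9 * ((4 * n + 8) / 9)) ^ 3 := Nat.pow_le_pow_left (by omega) 3
  have h2 : n ^ 3 ≤ 2 ^ ((4 * n + 8) / 9 + 1) := by
    rw [mul_pow] at h1
    omega
  have h3 : 2 ^ ((4 * n + 8) / 9 + 1) * 2 ^ ((5 * n) / 9) ≤ 2 ^ (n + 1) := by
    rw [← pow_add]
    exact Nat.pow_le_pow_right (by norm_num) (by omega)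
  have h4 : n * A₀ * 2 ≤ n ^ 3 := by nlinarith
  have h5 := Nat.mul_le_mul_right (2 ^ ((5 * n) / 9)) (h4.trans h2)
  rw [pow_succ 2 n] at h3
  nlinarith

/-- An odd divisor of `c * 2 ^ k` divides `c`. -/
theorem odd_dvd_of_dvd_mul_two_pow {a c k : ℕ} (ha : Odd a) (h : a ∣ c * 2 ^ k) : a ∣ c :=
  Nat.Coprime.dvd_of_dvd_mul_right (Nat.Coprime.pow_right _ (Nat.coprime_two_right.2 ha)) h

theorem big_count {n t K : ℕ} (h31 : 31 ≤ n) (h1 : t ≤ n / 3) (hK : 0 < K) (hK2 : 2 * K ≤ n ^ 2) :
    (n - 1) * 2 ^ t + (n * K - n) * 2 ^ ((n + 2 * t) / 3) < 2 ^ n := by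
  have h2 : 2 ^ t ≤ 2 ^ (5 * n / 9) := Nat.pow_le_pow_right (by norm_num) (by omega)
  have h3 : 2 ^ ((n + 2 * t) / 3) ≤ 2 ^ (5 * n / 9) :=
    Nat.pow_le_pow_right (by norm_num) (by omega)
  have h6 := count_lt h31 hK2
  have h7 : n ≤ n * K := Nat.le_mul_of_pos_right n hK
  refine lt_of_le_of_lt (Nat.add_le_add (Nat.mul_le_mul_left _ h2) (Nat.mul_le_mul_left _ h3)) ?_
  rw [← add_mul]
  refine lt_of_lt_of_le (Nat.mul_lt_mul_of_pos_right ?_ (pow_pos (by norm_num) _)) h6
  omega

theorem small_count {n q e K : ℕ} (hq : q.Prime) (hq3 : 3 ≤ q) (he : n = q ^ e) (hn : n < 31)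
    (he0 : e ≠ 0) (hK : Odd K) (hdvd : K ∣ ∏ i : Fin e, (q ^ e - q ^ (i : ℕ)))
    (h9 : q = 3 → e = 2 → K = 1) (h27 : q = 3 → e = 3 → K ≤ 39) :
    (n - 1) * 2 ^ (n / q) + (n * K - n) * 2 ^ ((n + 2 * (n / q)) / 3) < 2 ^ n := by
  subst he
  have hKpos : 0 < K := hK.pos
  have hqe : q ^ 1 ≤ q ^ e := Nat.pow_le_pow_right hq.pos (Nat.pos_of_ne_zero he0)
  rw [pow_one] at hqe
  have hq31 : q < 31 := lt_of_le_of_lt hqe hn
  have he4 : e < 4 := by
    by_contra h
    have := (Nat.pow_le_pow_left hq3 4).trans (Nat.pow_le_pow_right hq.pos (not_lt.1 h))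
    omega
  interval_cases e
  · exact absurd rfl he0
  · rw [Fin.prod_univ_one, Fin.val_zero, pow_zero, pow_one] at hdvd
    rw [pow_one, Nat.div_self hq.pos]
    have hK2 : K ≤ (q - 1) / 2 := by
      obtain ⟨c, hc⟩ := hdvd
      obtain ⟨m, hm⟩ := hK
      have h2 : q % 2 = 1 := hq.eq_two_or_odd.resolve_left (by omega)
      have hc2 : 2 ≤ c := by
        rcases c with _ | _ | c <;> omega
      have := Nat.mul_le_mul_left K hc2
      omega
    have hKle : q * K - q ≤ q * ((q - 1) / 2) - q :=
      Nat.sub_le_sub_right (Nat.mul_le_mul_left q hK2) q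
    refine lt_of_le_of_lt (Nat.add_le_add_left (Nat.mul_le_mul_right _ hKle) _) ?_
    interval_cases q <;> first | norm_num | exact absurd hq (by norm_num)
  · have hq6 : q < 6 := by
      by_contra h
      have := Nat.pow_le_pow_left (not_lt.1 h) 2
      omega
    interval_cases q
    · rw [h9 rfl rfl]; norm_num
    · exact absurd hq (by norm_num)
    · have h2 : K ∣ 15 * 2 ^ 5 := by simpa [Fin.prod_univ_two] using hdvd
      have h3 := Nat.le_of_dvd (by norm_num) (odd_dvd_of_dvd_mul_two_pow hK h2)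
      interval_cases K <;> norm_num
  · have hq4 : q < 4 := by
      by_contra h
      have := Nat.pow_le_pow_left (not_lt.1 h) 3
      omega
    obtain rfl : q = 3 := by omega
    have := h27 rfl rfl
    interval_cases K <;> norm_num

variable {G α : Type u} [Group G] [Finite G] [MulAction G α] [Finite α]

set_option maxHeartbeats 800000 in
/-- The primitive case. -/
theorem regSet_primitive {N : ℕ} (hb : Below.{u} N) (hG : Odd (Nat.card G)) (hN : Nat.card G ≤ N)
    [FaithfulSMul G α] [MulAction.IsPretransitive G α] (a : α)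
    (hmax : ∀ M : Subgroup G, MulAction.stabilizer G a < M → M = ⊤) : RegSet G α := by
  classical
  haveI : Nonempty α := ⟨a⟩
  rcases subsingleton_or_nontrivial α with hsub | hnt
  · exact ⟨∅, fun g _ x => Subsingleton.elim _ _⟩
  haveI : Nontrivial G := by
    obtain ⟨x, y, hxy⟩ := exists_pair_ne α
    obtain ⟨g, hg⟩ := MulAction.exists_smul_eq G x y
    exact ⟨g, 1, fun h => hxy (by rw [← hg, h, one_smul])⟩
  haveI : Group.IsSolvable G := Cfsg.Agent.S0205.result hG
  obtain ⟨D, hDn, hD1, hDc⟩ := exists_abelian_normal (X := G)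
  haveI := hDn
  set K := MulAction.stabilizer G a with hK
  have hfixall : ∀ U : Subgroup G, U.Normal → U ≤ K → U = ⊥ := by
    intro U hU hle
    refine (Subgroup.eq_bot_iff_forall U).2 fun x hx => eq_of_smul_eq_smul fun b : α => ?_
    obtain ⟨g, rfl⟩ := MulAction.exists_smul_eq G a b
    have h1 : g⁻¹ * x * g ∈ K := hle (by simpa using hU.conj_mem x hx g⁻¹)
    rw [hK, MulAction.mem_stabilizer_iff, mul_smul, mul_smul, inv_smul_eq_iff] at h1
    rw [one_smul, h1]
  have hgen : ∀ U : Subgroup G, U.Normal → U ≠ ⊥ → U ⊔ K = ⊤ := by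
    intro U hU hne
    refine hmax _ (lt_of_le_of_ne le_sup_right fun h => hne (hfixall U hU ?_))
    exact h ▸ le_sup_left
  have htransU : ∀ U : Subgroup G, U.Normal → U ≠ ⊥ → ∀ b : α, ∃ d ∈ U, d • a = b := by
    intro U hU hne b
    haveI := hU
    obtain ⟨g, rfl⟩ := MulAction.exists_smul_eq G a b
    have hg : g ∈ ((U ⊔ K : Subgroup G) : Set G) := by rw [hgen U hU hne]; trivial
    rw [Subgroup.normal_mul] at hg
    obtain ⟨d, hd, k, hk, rfl⟩ := hg
    exact ⟨d, hd, by rw [mul_smul, MulAction.mem_stabilizer_iff.1 hk]⟩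
  have hcomm : ∀ x ∈ D, ∀ y ∈ D, x * y = y * x := fun x hx y hy =>
    congrArg Subtype.val (hDc.is_comm.comm ⟨x, hx⟩ ⟨y, hy⟩)
  have hsemi : ∀ x ∈ D, ∀ b : α, x • b = b → x = 1 := by
    intro x hx b hb
    refine eq_of_smul_eq_smul fun c : α => ?_
    obtain ⟨d, hd, rfl⟩ := htransU D hDn hD1 c
    obtain ⟨e, he, rfl⟩ := htransU D hDn hD1 b
    have h1 : x • a = a := by
      have h2 : e • x • a = e • a := by rw [← mul_smul, ← hcomm x hx e he, mul_smul, hb]
      exact MulAction.injective e h2
    rw [one_smul, ← mul_smul, hcomm x hx d hd, mul_smul, h1]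
  let ev : D → α := fun d => (d : G) • a
  have hev : Function.Bijective ev := by
    refine ⟨fun d e h => ?_, fun b => ?_⟩
    · have h1 : ((e : G)⁻¹ * d) • a = a := by rw [mul_smul]; exact inv_smul_eq_iff.2 h
      exact (Subtype.ext (inv_mul_eq_one.1 (hsemi _ (mul_mem (inv_mem e.2) d.2) a h1))).symm
    · obtain ⟨d, hd, hd'⟩ := htransU D hDn hD1 b
      exact ⟨⟨d, hd⟩, hd'⟩
  set n := Nat.card α with hn
  have hDcard : Nat.card D = n := Nat.card_congr (Equiv.ofBijective ev hev)
  have hn1 : 1 < n := Finite.one_lt_card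
  have hirr : ∀ U : Subgroup G, U ≤ D → (∀ k ∈ K, ∀ x ∈ U, k * x * k⁻¹ ∈ U) → U ≠ ⊥ → U = D := by
    intro U hUD hKU hne
    have hUn : U.Normal := by
      constructor
      intro x hx g
      have hg : g ∈ ((D ⊔ K : Subgroup G) : Set G) := by rw [hgen D hDn hD1]; trivial
      rw [Subgroup.normal_mul] at hg
      obtain ⟨d, hd, k, hk, rfl⟩ := hg
      have h1 := hKU k hk x hx
      have : d * k * x * (d * k)⁻¹ = d * (k * x * k⁻¹) * d⁻¹ := by group
      rw [this, hcomm d hd _ (hUD h1), mul_inv_cancel_right]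
      exact h1
    refine le_antisymm hUD fun x hx => ?_
    obtain ⟨d, hd, hd'⟩ := htransU U hUn hne (x • a)
    have := hev.1 (a₁ := ⟨d, hUD hd⟩) (a₂ := ⟨x, hx⟩) hd'
    have e1 : d = x := congrArg Subtype.val this
    exact e1 ▸ hd
  -- elementary abelian
  have hoddn : Odd n := hDcard ▸ hG.of_dvd_nat D.card_subgroup_dvd_card
  obtain ⟨q, hqdef⟩ : ∃ q, q = n.minFac := ⟨_, rfl⟩
  have hq : q.Prime := hqdef ▸ Nat.minFac_prime (by omega)
  have hqn : q ∣ n := hqdef ▸ Nat.minFac_dvd n
  haveI : Fact q.Prime := ⟨hq⟩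
  have hq3 : 3 ≤ q := by
    rcases hq.eq_two_or_odd' with h2 | h2
    · exact absurd (even_iff_two_dvd.2 (h2 ▸ hqn)) (Nat.not_even_iff_odd.2 hoddn)
    · obtain ⟨m, hm⟩ := h2; have := hq.two_le; omega
  let Ω : Subgroup G :=
    { carrier := {x | x ∈ D ∧ x ^ q = 1}
      one_mem' := ⟨one_mem D, one_pow q⟩
      mul_mem' := fun {x y} hx hy => ⟨mul_mem hx.1 hy.1, by
        rw [Commute.mul_pow (hcomm x hx.1 y hy.1), hx.2, hy.2, mul_one]⟩
      inv_mem' := fun {x} hx => ⟨inv_mem hx.1, by rw [inv_pow, hx.2, inv_one]⟩ }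
  have hΩ : Ω = D := by
    refine hirr Ω (fun x hx => hx.1) (fun k _ x hx => ⟨hDn.conj_mem x hx.1 k, ?_⟩) fun h => ?_
    · rw [conj_pow, hx.2, mul_one, mul_inv_cancel]
    · obtain ⟨x, hx⟩ := exists_prime_orderOf_dvd_card' (G := D) q (hDcard ▸ hqn)
      have hxΩ : (x : G) ∈ Ω := ⟨x.2, by rw [← Subgroup.coe_pow, ← hx, pow_orderOf_eq_one]; rfl⟩
      rw [h, Subgroup.mem_bot] at hxΩ
      have : x = 1 := Subtype.ext hxΩ
      rw [this, orderOf_one] at hx
      exact hq.ne_one hx.symm
  have hexp : ∀ x ∈ D, x ^ q = 1 := fun x hx => (hΩ.symm ▸ hx : x ∈ Ω).2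
  have hpg : IsPGroup q D := fun x => ⟨1, Subtype.ext (by rw [pow_one]; exact hexp x x.2)⟩
  obtain ⟨e, he⟩ := (IsPGroup.iff_card).1 hpg
  rw [hDcard] at he
  -- the module
  letI : CommGroup D := { (inferInstance : Group D) with mul_comm := fun x y => hDc.is_comm.comm x y }
  let φ : K →* MulAut D := MulAut.conjNormal.comp K.subtype
  letI : DistribMulAction K (Additive D) :=
    { smul := fun k x => Additive.ofMul (φ k (Additive.toMul x))
      one_smul := fun x => by
        change Additive.ofMul (φ 1 (Additive.toMul x)) = x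
        rw [map_one]; rfl
      mul_smul := fun k l x => by
        change Additive.ofMul (φ (k * l) (Additive.toMul x)) =
          Additive.ofMul (φ k (φ l (Additive.toMul x)))
        rw [map_mul]; rfl
      smul_zero := fun k => congrArg Additive.ofMul (map_one (φ k))
      smul_add := fun k x y => congrArg Additive.ofMul (map_mul (φ k) _ _) }
  have hsm : ∀ (k : K) (x : D), ((Additive.toMul (k • Additive.ofMul x) : D) : G) =
      (k : G) * x * (k : G)⁻¹ := fun k x => MulAut.conjNormal_apply _ _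
  haveI : FaithfulSMul K (Additive D) := by
    constructor
    intro k l h
    apply Subtype.ext
    apply eq_of_smul_eq_smul (α := α)
    intro b
    obtain ⟨d, hd, rfl⟩ := htransU D hDn hD1 b
    have h1 := congrArg (fun x : Additive D => ((Additive.toMul x : D) : G)) (h (Additive.ofMul ⟨d, hd⟩))
    simp only [hsm] at h1
    calc (k : G) • d • a = ((k : G) * d * (k : G)⁻¹) • a := by
          rw [mul_smul, mul_smul, inv_smul_eq_iff.2 (MulAction.mem_stabilizer_iff.1 k.2).symm]
      _ = ((l : G) * d * (l : G)⁻¹) • a := by rw [h1]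
      _ = (l : G) • d • a := by
          rw [mul_smul, mul_smul, inv_smul_eq_iff.2 (MulAction.mem_stabilizer_iff.1 l.2).symm]
  have hcr : CR K (Additive D) := by
    intro U hU
    by_cases hUb : U = ⊥
    · exact ⟨⊤, fun _ _ _ => trivial, by simp [hUb], by simp [hUb]⟩
    let U' : Subgroup G := (AddSubgroup.toSubgroup' U).map D.subtype
    have hU' : U' = D := by
      refine hirr U' (Subgroup.map_subtype_le _) ?_ ?_
      · rintro k hk _ ⟨x, hx, rfl⟩
        exact ⟨Additive.toMul ((⟨k, hk⟩ : K) • Additive.ofMul x), hU ⟨k, hk⟩ _ hx, rfl⟩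
      · intro h
        apply hUb
        rw [Subgroup.map_eq_bot_iff_of_injective _ D.subtype_injective] at h
        rw [eq_bot_iff]
        intro x hx
        have : Additive.toMul x ∈ AddSubgroup.toSubgroup' U := hx
        rw [h, Subgroup.mem_bot] at this
        exact this
    refine ⟨⊥, fun k w hw => by rw [AddSubgroup.mem_bot] at hw ⊢; rw [hw, smul_zero], by simp, ?_⟩
    rw [sup_bot_eq, eq_top_iff]
    intro x _
    obtain ⟨y, hy, hyx⟩ := (hU'.symm ▸ (Additive.toMul x).2 : ((Additive.toMul x : D) : G) ∈ U')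
    have e1 : y = Additive.toMul x := Subtype.ext hyx
    subst e1
    exact hy
  -- order of the stabiliser
  have hKcard : Nat.card G = n * Nat.card K := by
    rw [← K.card_mul_index, hK, MulAction.index_stabilizer_of_transitive G a, mul_comm]
  have hKlt : Nat.card K < N := by
    have : 0 < Nat.card K := Nat.card_pos
    nlinarith
  haveI : Nontrivial (Additive D) := by
    haveI : Nontrivial D := (Subgroup.nontrivial_iff_ne_bot D).2 hD1
    exact inferInstanceAs (Nontrivial D)
  have hKodd : Odd (Nat.card K) := hG.of_dvd_nat K.card_subgroup_dvd_card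
  have hAcard : Nat.card (Additive D) = n := hDcard
  have hK2 : 2 * Nat.card K ≤ n ^ 2 := by
    rw [← hAcard]
    exact card_le hKodd (hb K (Additive D) hKlt hKodd hcr)
  have hKdvd : Nat.card K ∣ ∏ i : Fin e, (q ^ e - q ^ (i : ℕ)) := by
    rw [← card_units_end (V := Additive D) q e
      (fun x => Additive.toMul.injective (by
        rw [toMul_nsmul, toMul_zero]
        exact Subtype.ext (by rw [Subgroup.coe_pow]; exact hexp _ (Additive.toMul x).2)))
      (hAcard.trans he)]
    refine Subgroup.card_dvd_of_injective (DistribMulAction.toAddMonoidEnd K (Additive D)).toHomUnits ?_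
    intro k l h
    exact eq_of_smul_eq_smul fun x : Additive D =>
      DFunLike.congr_fun (congrArg Units.val h) x
  have hKcore : ∀ U : Subgroup K, U.Normal → IsPGroup q U → U = ⊥ := fun U hU hUq =>
    haveI := hU; normal_qgroup_trivial hcr q e (hAcard.trans he) U hUq
  -- fixed points
  have hfixD : ∀ g ∈ D, g ≠ 1 → Nat.card (MulAction.fixedBy α g) = 0 := by
    intro g hg hg1
    haveI : IsEmpty (MulAction.fixedBy α g) := ⟨fun b => hg1 (hsemi g hg b.1 b.2)⟩
    exact Nat.card_of_isEmpty
  have hcycD : ∀ g ∈ D, g ≠ 1 → cycNum α g * q ≤ n := by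
    intro g hg hg1
    haveI := Fintype.ofFinite α
    let Q := MulAction.orbitRel.Quotient (Subgroup.zpowers g) α
    haveI := Fintype.ofFinite Q
    let π : α → Q := Quotient.mk''
    have hz : Nat.card (Subgroup.zpowers g) = q := by
      rw [Nat.card_zpowers]
      exact orderOf_eq_prime (hexp g hg) hg1
    have : ∀ c : Q, q ≤ (Finset.univ.filter fun x => π x = c).card := by
      intro c
      obtain ⟨x, rfl⟩ := Quotient.exists_rep c
      rw [← hz]
      haveI := Fintype.ofFinite (Subgroup.zpowers g)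
      rw [Nat.card_eq_fintype_card, ← Finset.card_univ]
      refine Finset.card_le_card_of_injOn (fun z : Subgroup.zpowers g => z • x) ?_ ?_
      · intro z _
        simp only [Finset.coe_filter, Finset.mem_univ, true_and, Set.mem_ofPred_eq]
        exact Quotient.sound' ⟨z, rfl⟩
      · intro z _ w _ h
        have h1 : (((w⁻¹ * z : Subgroup.zpowers g) : G)) • x = x := by
          change (w⁻¹ * z) • x = x
          rw [mul_smul]; exact inv_smul_eq_iff.2 h
        have h2 := hsemi _ (Subgroup.zpowers_le.2 hg (w⁻¹ * z).2) x h1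
        exact (inv_mul_eq_one.1 (Subtype.ext (by simpa using h2) : w⁻¹ * z = 1)).symm
    have h1 : Fintype.card α = ∑ c : Q, (Finset.univ.filter fun x => π x = c).card := by
      rw [← Finset.card_univ, Finset.card_eq_sum_card_fiberwise (f := π) (t := Finset.univ)
        (fun x _ => Finset.mem_univ _)]
    rw [hn, cycNum, Nat.card_eq_fintype_card, Nat.card_eq_fintype_card, h1, ← Finset.card_univ,
      ← smul_eq_mul]
    exact Finset.card_nsmul_le_sum _ _ _ fun c _ => this c
  have hfix : ∀ g : G, g ≠ 1 → Nat.card (MulAction.fixedBy α g) * q ≤ n := by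
    intro g hg1
    rcases isEmpty_or_nonempty (MulAction.fixedBy α g) with hemp | ⟨⟨b, hb⟩⟩
    · simp
    obtain ⟨x, hx⟩ := MulAction.exists_smul_eq G a b
    let k := x⁻¹ * g * x
    have hkK : k • a = a := by
      simp only [k, mul_smul, inv_smul_eq_iff]
      rw [hx]; exact hb
    let C : Subgroup G :=
      { carrier := {d | d ∈ D ∧ k * d * k⁻¹ = d}
        one_mem' := ⟨one_mem D, by simp⟩
        mul_mem' := fun {c d} hc hd => ⟨mul_mem hc.1 hd.1, by
          calc k * (c * d) * k⁻¹ = (k * c * k⁻¹) * (k * d * k⁻¹) := by group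
            _ = c * d := by rw [hc.2, hd.2]⟩
        inv_mem' := fun {c} hc => ⟨inv_mem hc.1, by
          calc k * c⁻¹ * k⁻¹ = (k * c * k⁻¹)⁻¹ := by group
            _ = c⁻¹ := by rw [hc.2]⟩ }
    have hle : Nat.card (MulAction.fixedBy α g) ≤ Nat.card C := by
      have hpre : ∀ c : MulAction.fixedBy α g, ∃ d : C, (x * d) • a = (c : α) := by
        rintro ⟨c, hc⟩
        obtain ⟨d, hd, hd'⟩ := htransU D hDn hD1 (x⁻¹ • c)
        have hxc : (x * d) • a = c := by rw [mul_smul, hd', smul_inv_smul]
        refine ⟨⟨d, hd, ?_⟩, hxc⟩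
        have h1 : (k * d * k⁻¹) • a = d • a := by
          rw [mul_smul, mul_smul, inv_smul_eq_iff.2 hkK.symm, hd']
          simp only [k, mul_smul, smul_inv_smul]
          rw [show g • c = c from hc]
        exact congrArg Subtype.val (hev.1 (a₁ := ⟨_, hDn.conj_mem d hd k⟩) (a₂ := ⟨d, hd⟩) h1)
      choose f hf using hpre
      refine Nat.card_le_card_of_injective f fun c d h => Subtype.ext ?_
      rw [← hf c, ← hf d, h]
    have hCD : C ≠ D := by
      intro h
      apply hg1
      have hk1 : k = 1 := by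
        refine eq_of_smul_eq_smul fun c : α => ?_
        obtain ⟨d, hd, rfl⟩ := htransU D hDn hD1 c
        have h1 : k * d * k⁻¹ = d := (h.symm ▸ hd : d ∈ C).2
        rw [one_smul, ← mul_smul, mul_inv_eq_iff_eq_mul.1 h1, mul_smul, hkK]
      calc g = x * k * x⁻¹ := by simp [k, mul_assoc]
        _ = 1 := by rw [hk1]; group
    obtain ⟨j, hj, hjC⟩ := (Nat.dvd_prime_pow hq).1
      (he ▸ hDcard ▸ Subgroup.card_dvd_of_le (show C ≤ D from fun d hd => hd.1))
    have hje : j < e := by
      refine lt_of_le_of_ne hj fun h => hCD ?_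
      refine Subgroup.eq_of_le_of_card_ge (fun d hd => hd.1) ?_
      rw [hDcard, he, hjC, h]
    calc Nat.card (MulAction.fixedBy α g) * q ≤ q ^ j * q :=
          Nat.mul_le_mul_right q (hjC ▸ hle)
      _ = q ^ (j + 1) := (pow_succ q j).symm
      _ ≤ n := he ▸ Nat.pow_le_pow_right hq.pos hje
  -- the count
  refine regSet_of_count ?_
  intro _ _
  have hcycle : ∀ g : G, g ≠ 1 → cycNum α g ≤ (n + 2 * (n / q)) / 3 := by
    intro g hg
    have h1 := three_cycNum_le (α := α) hG g
    have h2 := (Nat.le_div_iff_mul_le hq.pos).2 (hfix g hg)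
    rw [Nat.le_div_iff_mul_le (by norm_num)]
    omega
  have hsum : ∑ g ∈ Finset.univ.erase (1 : G), 2 ^ cycNum α g ≤
      (n - 1) * 2 ^ (n / q) + (n * Nat.card K - n) * 2 ^ ((n + 2 * (n / q)) / 3) := by
    rw [← Finset.sum_filter_add_sum_filter_not (Finset.univ.erase (1 : G)) (fun g => g ∈ D)]
    refine Nat.add_le_add ?_ ?_
    · refine (Finset.sum_le_card_nsmul _ _ (2 ^ (n / q)) fun g hg => ?_).trans (le_of_eq ?_)
      · simp only [Finset.mem_filter, Finset.mem_erase] at hg
        exact Nat.pow_le_pow_right (by norm_num)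
          ((Nat.le_div_iff_mul_le hq.pos).2 (hcycD g hg.2 hg.1.1))
      · rw [smul_eq_mul, Finset.filter_erase, Finset.card_erase_of_mem (by simp)]
        congr 2
        rw [← hDcard, Nat.card_eq_fintype_card, ← Fintype.card_subtype]
    · refine (Finset.sum_le_card_nsmul _ _ (2 ^ ((n + 2 * (n / q)) / 3)) fun g hg => ?_).trans
        (le_of_eq ?_)
      · simp only [Finset.mem_filter, Finset.mem_erase] at hg
        exact Nat.pow_le_pow_right (by norm_num) (hcycle g hg.1.1)
      · rw [smul_eq_mul, Finset.filter_erase,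
          Finset.erase_eq_of_notMem (by simp [one_mem D]), ← hKcard, ← hDcard]
        congr 1
        rw [Finset.filter_not, Finset.card_sdiff, Finset.inter_univ, Finset.card_univ,
          ← Nat.card_eq_fintype_card, ← Fintype.card_subtype, ← Nat.card_eq_fintype_card]
  refine lt_of_le_of_lt hsum ?_
  by_cases h31 : 31 ≤ n
  · exact big_count h31 (Nat.div_le_div_left hq3 (by norm_num)) Nat.card_pos hK2
  · refine small_count hq hq3 he (not_le.1 h31) (fun h0 => ?_) hKodd hKdvd ?_ ?_
    · rw [h0, pow_zero] at he; omega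
    · rintro rfl rfl
      have h2 : Nat.card K ∣ 3 * 16 := by simpa [Fin.prod_univ_two] using hKdvd
      have h1 : Nat.card K ∣ 3 ^ 1 :=
        (pow_one 3).symm ▸ odd_dvd_of_dvd_mul_two_pow (k := 4) hKodd h2
      obtain ⟨j, hj, hjK⟩ := (Nat.dvd_prime_pow hq).1 h1
      have := hKcore ⊤ inferInstance (IsPGroup.of_card (n := j) (Subgroup.card_top.trans hjK))
      rw [← Subgroup.card_top, this, Subgroup.card_bot]
    · rintro rfl rfl
      haveI : Fact (Nat.Prime 13) := ⟨by norm_num⟩
      have h2 : Nat.card K ∣ (13 * 3 ^ 3) * 2 ^ 5 := by simpa [Fin.prod_univ_three] using hKdvd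
      have h4 := core_bound (X := K) (s := 13) (q := 3) (by norm_num)
        (odd_dvd_of_dvd_mul_two_pow hKodd h2) hKcore
      have h5 : Nat.card K ∣ 39 := odd_dvd_of_dvd_mul_two_pow (k := 2) hKodd h4
      exact Nat.le_of_dvd (by norm_num) h5

omit [Finite G] [Finite α] in
theorem card_odd_of_transitive [Finite G] (hG : Odd (Nat.card G)) [MulAction.IsPretransitive G α]
    (a : α) : Odd (Nat.card α) := by
  rw [← MulAction.index_stabilizer_of_transitive G a]
  exact hG.of_dvd_nat (Subgroup.index_dvd_card _)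

/-- Gluck's lemma for transitive groups of odd order. -/
theorem regSet_transitive {N : ℕ} (hb : Below.{u} N) :
    ∀ (n : ℕ) (G α : Type u) [Group G] [Finite G] [MulAction G α] [Finite α]
      [MulAction.IsPretransitive G α], Nat.card α ≤ n → Odd (Nat.card G) → Nat.card G ≤ N →
      RegSet G α := by
  intro n
  induction n using Nat.strong_induction_on with
  | _ n ih =>
    intro G α _ _ _ _ _ hn hG hN
    rcases isEmpty_or_nonempty α with hemp | ⟨⟨a⟩⟩
    · exact ⟨∅, fun g _ x => isEmptyElim x⟩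
    let P : Subgroup (Equiv.Perm α) := (MulAction.toPermHom G α).range
    by_cases hmax : ∀ M : Subgroup P, MulAction.stabilizer P a < M → M = ⊤
    · haveI : MulAction.IsPretransitive P α := ⟨fun x y => by
        obtain ⟨g, hg⟩ := MulAction.exists_smul_eq G x y
        exact ⟨⟨MulAction.toPermHom G α g, g, rfl⟩, hg⟩⟩
      have hPdvd : Nat.card P ∣ Nat.card G := Subgroup.card_range_dvd _
      obtain ⟨S, hS⟩ := regSet_primitive hb (hG.of_dvd_nat hPdvd)
        ((Nat.le_of_dvd Nat.card_pos hPdvd).trans hN) a hmax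
      refine ⟨S, fun g hg x => hS ⟨MulAction.toPermHom G α g, g, rfl⟩ ?_ x⟩
      conv_rhs => rw [← hg]
      rfl
    -- a system of blocks
    push Not at hmax
    obtain ⟨M, hM, hMtop⟩ := hmax
    let ψ : G →* P := (MulAction.toPermHom G α).rangeRestrict
    have hψ : Function.Surjective ψ := (MulAction.toPermHom G α).rangeRestrict_surjective
    let B : Subgroup G := M.comap ψ
    have hstab : (MulAction.stabilizer P a).comap ψ = MulAction.stabilizer G a := by
      ext g; rfl
    have hlt : MulAction.stabilizer G a < B := by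
      have h := (Subgroup.comap_lt_comap_of_surjective hψ).2 hM
      rwa [hstab] at h
    have hBtop : B ≠ ⊤ := fun h => hMtop (by
      rw [← Subgroup.map_comap_eq_self_of_surjective hψ M]
      change B.map ψ = ⊤
      rw [h, Subgroup.map_top_of_surjective _ hψ])
    have hrep : ∀ x : α, ∃ g : G, g • a = x := fun x => MulAction.exists_smul_eq G a x
    choose rep hrepx using hrep
    let f : α → G ⧸ B := fun x => (rep x : G ⧸ B)
    have hf : ∀ (g : G) (x : α), f (g • x) = g • f x := by
      intro g x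
      refine QuotientGroup.eq.2 (hlt.le ?_)
      change ((rep (g • x))⁻¹ * (g * rep x)) • a = a
      rw [mul_smul, mul_smul, hrepx, inv_smul_eq_iff, hrepx]
    -- the block of `a`
    let Δ : Type u := MulAction.orbit B a
    have hΔodd : Odd (Nat.card Δ) := by
      haveI : MulAction.IsPretransitive B Δ := inferInstance
      exact card_odd_of_transitive (hG.of_dvd_nat B.card_subgroup_dvd_card) (⟨a, MulAction.mem_orbit_self a⟩ : Δ)
    have hidx : Nat.card α = Nat.card Δ * B.index := by
      change Nat.card α = Nat.card (MulAction.orbit B a) * _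
      rw [← MulAction.index_stabilizer_of_transitive G a, Nat.card_coe_set_eq,
        ← MulAction.index_stabilizer]
      rw [show MulAction.stabilizer B a = (MulAction.stabilizer G a).subgroupOf B from rfl]
      exact (Subgroup.relIndex_mul_index hlt.le).symm
    have hB1 : 1 < B.index := by
      have h0 : B.index ≠ 0 := B.index_ne_zero_of_finite
      have h1 : B.index ≠ 1 := fun h => hBtop (Subgroup.index_eq_one.1 h)
      omega
    have hΔ1 : 1 < Nat.card Δ := by
      by_contra h
      have h1 : Nat.card Δ = 1 := by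
        have : 0 < Nat.card Δ := by
          haveI : Nonempty Δ := ⟨⟨a, MulAction.mem_orbit_self a⟩⟩
          exact Nat.card_pos
        omega
      rw [h1, one_mul, ← MulAction.index_stabilizer_of_transitive G a] at hidx
      have := Subgroup.index_strictAnti hlt
      omega
    have hΔn : Nat.card Δ < n := by
      refine lt_of_lt_of_le ?_ hn
      rw [hidx]
      exact lt_mul_of_one_lt_right (by omega) hB1
    obtain ⟨S0, hS0⟩ := ih _ hΔn B Δ le_rfl (hG.of_dvd_nat B.card_subgroup_dvd_card)
      ((Nat.le_of_dvd Nat.card_pos B.card_subgroup_dvd_card).trans hN)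
    have hQn : Nat.card (G ⧸ B) < n := by
      refine lt_of_lt_of_le ?_ hn
      rw [hidx, ← Subgroup.index_eq_card]
      exact lt_mul_of_one_lt_left (by omega) hΔ1
    obtain ⟨T, hT⟩ := ih _ hQn G (G ⧸ B) le_rfl hG hN
    -- coordinates
    have hrg : ∀ c : G ⧸ B, ((c.out : G) : G ⧸ B) = c := fun c => QuotientGroup.out_eq' c
    have hfa : f a = ((1 : G) : G ⧸ B) := by
      refine QuotientGroup.eq.2 (hlt.le ?_)
      rw [mul_one, inv_mem_iff, MulAction.mem_stabilizer_iff]
      exact hrepx a
    have hmem : ∀ x : α, (f x).out⁻¹ • x ∈ MulAction.orbit B a := by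
      intro x
      have h1 : f ((f x).out⁻¹ • x) = ((1 : G) : G ⧸ B) := by
        rw [hf, inv_smul_eq_iff, MulAction.Quotient.smul_coe, smul_eq_mul, mul_one, hrg]
      have h2 : rep ((f x).out⁻¹ • x) ∈ B := by
        have := QuotientGroup.eq.1 h1
        rwa [mul_one, inv_mem_iff] at this
      exact ⟨⟨_, h2⟩, hrepx _⟩
    let co : α → Δ := fun x => ⟨_, hmem x⟩
    refine ⟨{x | co x ∈ S0 ↔ f x ∈ T}, fun g hg x => ?_⟩
    have hgS : ∀ y : α, g • y ∈ {x | co x ∈ S0 ↔ f x ∈ T} ↔ y ∈ {x | co x ∈ S0 ↔ f x ∈ T} := by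
      intro y
      conv_lhs => rw [← hg]
      exact Set.smul_mem_smul_set_iff
    have hb' : ∀ c : G ⧸ B, (g • c).out⁻¹ * g * c.out ∈ B := by
      intro c
      have h1 : (((g • c).out : G) : G ⧸ B) = ((g * c.out : G) : G ⧸ B) := by
        rw [hrg]
        conv_lhs => rw [← hrg c]
        rfl
      rw [mul_assoc]
      exact QuotientGroup.eq.1 h1
    have hco : ∀ (c : G ⧸ B) (y : α), f y = c → co (g • y) = (⟨_, hb' c⟩ : B) • co y := by
      intro c y hy
      apply Subtype.ext
      change (f (g • y)).out⁻¹ • g • y = ((g • c).out⁻¹ * g * c.out) • ((f y).out⁻¹ • y)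
      rw [hf, hy, mul_smul, smul_inv_smul, mul_smul]
    have hsurj : ∀ (c : G ⧸ B) (d : Δ), ∃ y : α, f y = c ∧ co y = d := by
      intro c d
      obtain ⟨⟨b, hbB⟩, hbd⟩ := d.2
      refine ⟨c.out • (d : α), ?_, ?_⟩
      · rw [hf, ← show b • a = (d : α) from hbd, hf, hfa, MulAction.Quotient.smul_coe,
          MulAction.Quotient.smul_coe, smul_eq_mul, smul_eq_mul, mul_one,
          QuotientGroup.mk_mul_of_mem _ hbB, hrg]
      · apply Subtype.ext
        change (f (c.out • (d : α))).out⁻¹ • c.out • (d : α) = d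
        rw [hf, ← show b • a = (d : α) from hbd, hf, hfa, MulAction.Quotient.smul_coe,
          MulAction.Quotient.smul_coe, smul_eq_mul, smul_eq_mul, mul_one,
          QuotientGroup.mk_mul_of_mem _ hbB, hrg, inv_smul_smul]
    have hTinv : ∀ c : G ⧸ B, (g • c ∈ T ↔ c ∈ T) := by
      intro c
      by_contra hne
      let b : B := ⟨_, hb' c⟩
      have hflip : ∀ d : Δ, (b • d ∈ S0 ↔ d ∉ S0) := by
        intro d
        obtain ⟨y, hy, hyd⟩ := hsurj c d
        have h1 := hgS y
        simp only [Set.mem_ofPred_eq] at h1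
        rw [hco c y hy, hf, hy, hyd] at h1
        change ((b • d ∈ S0 ↔ g • c ∈ T) ↔ (d ∈ S0 ↔ c ∈ T)) at h1
        tauto
      have hsplit : Nat.card (S0 : Set Δ) = Nat.card (S0ᶜ : Set Δ) := Nat.card_congr
        { toFun := fun d => ⟨b • d.1, fun h => (hflip d.1).1 h d.2⟩
          invFun := fun d => ⟨b⁻¹ • d.1, by
            by_contra h
            exact d.2 (by simpa using (hflip (b⁻¹ • d.1)).2 h)⟩
          left_inv := fun d => Subtype.ext (inv_smul_smul b d.1)
          right_inv := fun d => Subtype.ext (smul_inv_smul b d.1) }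
      have h2 := Set.ncard_add_ncard_compl (S0 : Set Δ)
      rw [← Nat.card_coe_set_eq, ← Nat.card_coe_set_eq, ← hsplit] at h2
      obtain ⟨m, hm⟩ := hΔodd
      omega
    have hfixc : ∀ c : G ⧸ B, g • c = c := by
      refine hT g (Set.ext fun c => ?_)
      rw [Set.mem_smul_set_iff_inv_smul_mem, ← hTinv, smul_inv_smul]
    let c := f x
    have hbS : ∀ d : Δ, ((⟨_, hb' c⟩ : B) • d ∈ S0 ↔ d ∈ S0) := by
      intro d
      obtain ⟨y, hy, hyd⟩ := hsurj c d
      have h1 := hgS y
      simp only [Set.mem_ofPred_eq] at h1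
      rw [hco c y hy, hf, hy, hyd] at h1
      rw [show (g • c ∈ T) = (c ∈ T) by rw [hfixc c]] at h1
      by_cases hc : c ∈ T <;> simp [hc] at h1 <;> tauto
    have h3 := hS0 (⟨_, hb' c⟩ : B) (Set.ext fun d => by
      rw [Set.mem_smul_set_iff_inv_smul_mem, ← hbS, smul_inv_smul]) (co x)
    rw [← hco c x rfl] at h3
    have h4 : (f (g • x)).out⁻¹ • g • x = (f x).out⁻¹ • x := congrArg Subtype.val h3
    rw [hf, hfixc] at h4
    exact MulAction.injective _ h4

end Cfsg.Lib.OddBase
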